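import Groth.Agent.Misc10.Weil.FrobGeom
import Groth.Prelude.Def_W4c1zetahwZeta

/-! Geometric points fixed by a power of Frobenius are counted by `Zeta.nPts`. -/

set_option autoImplicit false

universe u

namespace Groth.Misc10.FrobPts

open AlgebraicGeometry CategoryTheory

lemma resHom_id_surjective {R : Type u} [Field R] (x : Spec (CommRingCat.of R)) :
    Function.Surjective (Groth.Variety2.Dim.resHom (𝟙 (Spec (CommRingCat.of R))) x) := by
  haveI hp : (PrimeSpectrum.asIdeal (R := CommRingCat.of R) x).IsPrime := PrimeSpectrum.isPrime (R := CommRingCat.of R) x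
  have h : CommRingCat.ofHom (Groth.Variety2.Dim.resHom (𝟙 (Spec (CommRingCat.of R))) x) =
      CommRingCat.ofHom (algebraMap (CommRingCat.of R) (PrimeSpectrum.asIdeal (R := CommRingCat.of R) x).ResidueField) ≫ (Scheme.Spec.residueFieldIso (CommRingCat.of R) x).inv := by
    apply Spec.map_injective
    rw [Groth.Variety2.Dim.resHom_spec, Category.comp_id, Spec.map_comp]
    exact (Scheme.Spec.map_residueFieldIso_inv_eq_fromSpecResidueField (CommRingCat.of R) x).symm
  intro z
  obtain ⟨y, rfl⟩ := (Scheme.Spec.residueFieldIso (CommRingCat.of R) x).symm.commRingCatIsoToRingEquiv.surjective z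
  have : x.asIdeal.IsMaximal := by
    have hb : x.asIdeal = ⊥ := (Ideal.eq_bot_or_top _).resolve_right x.isPrime.ne_top
    rw [hb]; exact Ideal.bot_isMaximal
  obtain ⟨a, ha⟩ := (Ideal.bijective_algebraMap_quotient_residueField x.asIdeal).2 y
  obtain ⟨a, rfl⟩ := Ideal.Quotient.mk_surjective a
  refine ⟨a, (congrArg (fun g : CommRingCat.of R ⟶ _ => g a) h).trans ?_⟩
  rw [← ha]
  rfl

lemma residueDegree_eq_finrank {k₀ : Type u} [Field k₀] {X : Scheme.{u}} (f : X ⟶ Spec (CommRingCat.of k₀))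
    (x : X) : EGA4loc.residueDegree f x =
      @Module.finrank k₀ (X.residueField x) _ _ (Groth.Variety2.Dim.resHom f x).toAlgebra.toModule := by
  have h1 : Groth.Variety2.Dim.resHom f x =
      (f.residueFieldMap x).hom.comp (Groth.Variety2.Dim.resHom (𝟙 (Spec (CommRingCat.of k₀))) (f x)) := by
    have : CommRingCat.ofHom (Groth.Variety2.Dim.resHom f x) =
        CommRingCat.ofHom (Groth.Variety2.Dim.resHom (𝟙 (Spec (CommRingCat.of k₀))) (f x)) ≫ f.residueFieldMap x := by
      apply Spec.map_injective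
      rw [Spec.map_comp, Groth.Variety2.Dim.resHom_spec, Groth.Variety2.Dim.resHom_spec, ← Category.assoc,
        Scheme.Hom.SpecMap_residueFieldMap_fromSpecResidueField, Category.assoc, Category.comp_id]
    exact congrArg CommRingCat.Hom.hom this
  have h2 : FrobDeg.hdeg (Groth.Variety2.Dim.resHom (𝟙 (Spec (CommRingCat.of k₀))) (f x)) = 1 := by
    letI := (Groth.Variety2.Dim.resHom (𝟙 (Spec (CommRingCat.of k₀))) (f x)).toAlgebra
    exact (LinearEquiv.ofBijective (Algebra.linearMap k₀ _) ⟨RingHom.injective _, resHom_id_surjective (f x)⟩).finrank_eq.symm.trans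
      (Module.finrank_self k₀)
  show FrobDeg.hdeg (f.residueFieldMap x).hom = FrobDeg.hdeg (Groth.Variety2.Dim.resHom f x)
  rw [h1, FrobDeg.hdeg_comp, h2, one_mul]

lemma residueFieldCongr_evaluation {X : Scheme.{u}} {x y : X} (h : x = y) (U : X.Opens) (hx : x ∈ U) (t : Γ(X, U)) :
    (X.residueFieldCongr h).hom (X.evaluation U x hx t) = X.evaluation U y (h ▸ hx) t := by
  subst h; rfl

/-- The residue field map of an absolute Frobenius. -/
lemma residueFieldMap_absFrob {X : Scheme.{u}} (G : X ⟶ X)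
    (hle : ∀ U : X.Opens, U ≤ G ⁻¹ᵁ U) {Q : ℕ}
    (hGapp : ∀ (U : X.Opens) (s : Γ(X, U)), (G.appLE U U (hle U)).hom s = s ^ Q)
    (x : X) (h : x = G x) (b : X.residueField x) :
    G.residueFieldMap x ((X.residueFieldCongr h).hom b) = b ^ Q := by
  obtain ⟨U, hU, hxU, -⟩ := exists_isAffineOpen_mem_and_subset (U := ⊤) (show x ∈ (⊤ : X.Opens) from trivial)
  obtain ⟨a, c, rfl⟩ := FrobResidue.exists_div_of_isAffineOpen hU x hxU b
  rw [map_div₀, map_div₀, div_pow, residueFieldCongr_evaluation, residueFieldCongr_evaluation,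
    FrobResidue.residueFieldMap_evaluation G (hle U) x hxU, FrobResidue.residueFieldMap_evaluation G (hle U) x hxU,
    hGapp, hGapp, map_pow, map_pow]

variable {k₀ : Type u} [Field k₀] [Finite k₀] {k : Type u} [Field k] [IsAlgClosed k] [Algebra k₀ k]
  {X : Scheme.{u}} (f : X ⟶ Spec (CommRingCat.of k₀)) [LocallyOfFiniteType f]

include f in
omit [IsAlgClosed k] [Algebra k₀ k] in
/-- A residue field with an embedding fixed by `a ↦ a ^ Q` is finite, and the point is closed. -/
lemma finite_of_fixed (x : X) (ι : X.residueField x →+* k) {Q : ℕ} (hQ : 1 < Q)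
    (hι : ∀ b, ι b ^ Q = ι b) : Finite (X.residueField x) ∧ IsClosed ({x} : Set X) := by
  classical
  have hfin : Finite (X.residueField x) := by
    let S : Finset k := (Polynomial.X ^ Q - Polynomial.X : Polynomial k).roots.toFinset
    have hmem : ∀ b, ι b ∈ S := fun b => by
      simp only [S, Multiset.mem_toFinset, Polynomial.mem_roots (FiniteField.X_pow_card_sub_X_ne_zero k hQ)]
      simp [hι b]
    exact Finite.of_injective (fun b => (⟨ι b, hmem b⟩ : S)) fun _ _ h => ι.injective (congrArg Subtype.val h)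
  refine ⟨hfin, ?_⟩
  letI := (Groth.Variety2.Dim.resHom f x).toAlgebra
  have : Algebra.IsAlgebraic k₀ (X.residueField x) := Algebra.IsAlgebraic.of_finite k₀ _
  have h0 : Groth.Variety2.Dim.trdegAt f x = 0 := trdeg_eq_zero
  obtain ⟨n, hn, hn'⟩ := Groth.Variety2.Dim.exists_trdegAt_eq_height f x
  rw [h0, eq_comm, Nat.cast_eq_zero] at hn
  subst hn
  have hmin : IsMin x := Order.height_eq_zero.1 hn'
  refine isClosed_of_closure_subset fun y hy => ?_
  have hxy : x ⤳ y := specializes_iff_mem_closure.2 hy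
  exact ((Scheme.le_iff_specializes.1 (hmin (Scheme.le_iff_specializes.2 hxy))).antisymm hxy).eq

include f in
omit [IsAlgClosed k] [Algebra k₀ k] in
lemma finite_residueField_of_isClosed {x : X} (hx : IsClosed ({x} : Set X)) : Finite (X.residueField x) := by
  have hmin : IsMin x := fun y hy => by
    have h1 : x ⤳ y := Scheme.le_iff_specializes.1 hy
    have h2 : y ∈ ({x} : Set X) := hx.closure_eq ▸ specializes_iff_mem_closure.1 h1
    rw [Set.mem_singleton_iff] at h2
    rw [h2]
  obtain ⟨n, hn, hn'⟩ := Groth.Variety2.Dim.exists_trdegAt_eq_height f x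
  rw [Order.height_eq_zero.2 hmin, eq_comm, Nat.cast_eq_zero] at hn'
  subst hn'
  letI := (Groth.Variety2.Dim.resHom f x).toAlgebra
  have : Algebra.IsAlgebraic k₀ (X.residueField x) := trdeg_eq_zero_iff.1 (by simpa using! hn)
  have := Groth.Misc10.Weil.essFiniteType_resHom f x
  have : Module.Finite k₀ (X.residueField x) := Algebra.finite_of_essFiniteType_of_isAlgebraic
  exact Module.finite_of_finite k₀

/-- `k`-valued `k₀`-points of `X` fixed by `G`. -/
abbrev FixedPts (k : Type u) [Field k] [Algebra k₀ k] (G : X ⟶ X) : Type u :=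
  {s : Spec (CommRingCat.of k) ⟶ X // s ≫ f = Spec.map (CommRingCat.ofHom (algebraMap k₀ k)) ∧ s ≫ G = s}

omit [Finite k₀] [LocallyOfFiniteType f] [IsAlgClosed k] in
lemma mem_fixedPts_iff (G : X ⟶ X) (hGb : G.base = 𝟙 _) (hle : ∀ U : X.Opens, U ≤ G ⁻¹ᵁ U) {Q : ℕ}
    (hGapp : ∀ (U : X.Opens) (s : Γ(X, U)), (G.appLE U U (hle U)).hom s = s ^ Q)
    (x : X) (ι : X.residueField x ⟶ CommRingCat.of k) :
    ((Spec.map ι ≫ X.fromSpecResidueField x) ≫ f = Spec.map (CommRingCat.ofHom (algebraMap k₀ k)) ∧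
      (Spec.map ι ≫ X.fromSpecResidueField x) ≫ G = Spec.map ι ≫ X.fromSpecResidueField x) ↔
    ((∀ c, ι.hom (Groth.Variety2.Dim.resHom f x c) = algebraMap k₀ k c) ∧ ∀ b, ι.hom b ^ Q = ι.hom b) := by
  have hx : x = G x := (congrArg (fun g : X.carrier ⟶ X.carrier => g x) hGb).symm
  refine and_congr ?_ ?_
  · rw [Category.assoc, ← Groth.Variety2.Dim.resHom_spec, ← Spec.map_comp, Spec.map_inj]
    exact ⟨fun h c => congrArg (fun g : CommRingCat.of k₀ ⟶ CommRingCat.of k => g c) h,
      fun h => CommRingCat.hom_ext (RingHom.ext h)⟩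
  · rw [Category.assoc, ← Scheme.Hom.SpecMap_residueFieldMap_fromSpecResidueField, ← Category.assoc,
      ← Spec.map_comp]
    have e : Spec.map (G.residueFieldMap x ≫ ι) ≫ X.fromSpecResidueField (G x) = Spec.map ι ≫ X.fromSpecResidueField x ↔
        (⟨G x, G.residueFieldMap x ≫ ι⟩ : Σ y : X, X.residueField y ⟶ CommRingCat.of k) = ⟨x, ι⟩ :=
      (Scheme.SpecToEquivOfField k X).symm.injective.eq_iff
        (a := ⟨G x, G.residueFieldMap x ≫ ι⟩) (b := ⟨x, ι⟩)
    rw [e,
      Scheme.SpecToEquivOfField_eq_iff]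
    constructor
    · rintro ⟨e, h⟩ b
      have h1 := congrArg (fun g : X.residueField (G x) ⟶ CommRingCat.of k => g ((X.residueFieldCongr hx).hom b)) h
      dsimp at h1
      rw [residueFieldMap_absFrob G hle hGapp x hx b, map_pow] at h1
      rw [h1]
      congr 1
      rw [← CategoryTheory.comp_apply, Scheme.residueFieldCongr_trans_hom]
      rfl
    · intro h
      refine ⟨hx.symm, CommRingCat.hom_ext (RingHom.ext fun b => ?_)⟩
      obtain ⟨b, rfl⟩ := (X.residueFieldCongr hx).commRingCatIsoToRingEquiv.surjective b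
      show ι.hom (G.residueFieldMap x ((X.residueFieldCongr hx).hom b)) =
        ι.hom ((X.residueFieldCongr hx.symm).hom ((X.residueFieldCongr hx).hom b))
      rw [residueFieldMap_absFrob G hle hGapp x hx b, map_pow, h b]
      congr 1
      rw [← CategoryTheory.comp_apply, Scheme.residueFieldCongr_trans_hom]
      rfl

/-- The count. -/
theorem natCard_fixedPts (G : X ⟶ X) (hGb : G.base = 𝟙 _) (hle : ∀ U : X.Opens, U ≤ G ⁻¹ᵁ U) {m : ℕ} (hm : m ≠ 0)
    (hGapp : ∀ (U : X.Opens) (s : Γ(X, U)), (G.appLE U U (hle U)).hom s = s ^ (Nat.card k₀ ^ m))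
    [Finite (FixedPts f k G)] : Nat.card (FixedPts f k G) = Zeta.nPts f m := by
  classical
  have hQ : 1 < Nat.card k₀ ^ m := Nat.one_lt_pow hm Finite.one_lt_card
  let C := {x : X // IsClosed ({x} : Set X) ∧ EGA4loc.residueDegree f x ∣ m}
  let E : C → Type u := fun x => {ι : X.residueField x.1 ⟶ CommRingCat.of k //
    (∀ c, ι.hom (Groth.Variety2.Dim.resHom f x.1 c) = algebraMap k₀ k c)}
  -- conditions on an embedding
  have key : ∀ (x : X) (ι : X.residueField x ⟶ CommRingCat.of k),
      (∀ c, ι.hom (Groth.Variety2.Dim.resHom f x c) = algebraMap k₀ k c) →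
      ((∀ b, ι.hom b ^ (Nat.card k₀ ^ m) = ι.hom b) ↔ IsClosed ({x} : Set X) ∧ EGA4loc.residueDegree f x ∣ m) := by
    intro x ι _
    letI := (Groth.Variety2.Dim.resHom f x).toAlgebra
    rw [residueDegree_eq_finrank]
    constructor
    · intro h
      obtain ⟨hfin, hcl⟩ := finite_of_fixed f x ι.hom hQ h
      refine ⟨hcl, ?_⟩
      letI := Fintype.ofFinite k₀
      have := FiniteField.orderOf_frobeniusAlgHom k₀ (X.residueField x)
      rw [← this]
      refine orderOf_dvd_of_pow_eq_one (AlgHom.ext fun b => ι.hom.injective ?_)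
      rw [AlgHom.coe_pow, FiniteField.coe_frobeniusAlgHom, pow_iterate, AlgHom.one_apply, ← Nat.card_eq_fintype_card,
        map_pow, h b]
    · rintro ⟨hcl, hdvd⟩ b
      have := finite_residueField_of_isClosed f hcl
      letI := Fintype.ofFinite k₀
      have ho := FiniteField.orderOf_frobeniusAlgHom k₀ (X.residueField x)
      rw [← ho] at hdvd
      have h1 := congrArg (fun g : X.residueField x →ₐ[k₀] X.residueField x => g b) (orderOf_dvd_iff_pow_eq_one.1 hdvd)
      simp only [AlgHom.coe_pow, FiniteField.coe_frobeniusAlgHom, pow_iterate, AlgHom.one_apply,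
        ← Nat.card_eq_fintype_card] at h1
      rw [← map_pow, h1]
  let toFun : FixedPts f k G → Σ x : C, E x := fun s =>
    have hs := (mem_fixedPts_iff f G hGb hle hGapp _ (Scheme.SpecToEquivOfField k X s.1).2).1 (by
      have := (Scheme.SpecToEquivOfField k X).symm_apply_apply s.1
      rw [show Spec.map (Scheme.SpecToEquivOfField k X s.1).2 ≫ X.fromSpecResidueField _ = s.1 from this]
      exact s.2)
    ⟨⟨_, (key _ _ hs.1).1 hs.2⟩, ⟨(Scheme.SpecToEquivOfField k X s.1).2, hs.1⟩⟩
  let invFun : (Σ x : C, E x) → FixedPts f k G := fun p =>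
    ⟨(Scheme.SpecToEquivOfField k X).symm ⟨p.1.1, p.2.1⟩,
      (mem_fixedPts_iff f G hGb hle hGapp p.1.1 p.2.1).2 ⟨p.2.2, (key _ _ p.2.2).2 p.1.2⟩⟩
  have hcard : ∀ x : C, Nat.card (E x) = EGA4loc.residueDegree f x.1 := by
    intro x
    letI := (Groth.Variety2.Dim.resHom f x.1).toAlgebra
    have := finite_residueField_of_isClosed f x.2.1
    have : Module.Finite k₀ (X.residueField x.1) := Module.Finite.of_finite
    rw [residueDegree_eq_finrank, ← AlgHom.card k₀ (X.residueField x.1) k, ← Nat.card_eq_fintype_card]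
    exact Nat.card_congr
      { toFun := fun ι => AlgHom.mk ι.1.hom ι.2
        invFun := fun g => ⟨CommRingCat.ofHom g.toRingHom, g.commutes⟩
        left_inv := fun _ => rfl
        right_inv := fun _ => rfl }
  have hpos : ∀ x : C, 0 < EGA4loc.residueDegree f x.1 := fun x => Nat.pos_of_ne_zero fun h => hm (Nat.eq_zero_of_zero_dvd (by rw [← h]; exact x.2.2))
  let e : FixedPts f k G ≃ Σ x : C, E x :=
    { toFun := toFun
      invFun := invFun
      left_inv := fun s => Subtype.ext ((Scheme.SpecToEquivOfField k X).symm_apply_apply s.1)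
      right_inv := fun p => by
        have h := (Scheme.SpecToEquivOfField k X).apply_symm_apply ⟨p.1.1, p.2.1⟩
        have : ∀ (a b : Σ x : C, E x), (⟨a.1.1, a.2.1⟩ : Σ x : X, X.residueField x ⟶ CommRingCat.of k) = ⟨b.1.1, b.2.1⟩ → a = b := by
          rintro ⟨⟨a, ha⟩, ⟨i, hi⟩⟩ ⟨⟨b, hb⟩, ⟨j, hj⟩⟩ h
          simp only [Sigma.mk.injEq] at h
          obtain ⟨rfl, h⟩ := h
          cases h
          rfl
        exact this _ _ h }
  have : Finite (Σ x : C, E x) := Finite.of_equiv _ e
  have hne : ∀ x, Nonempty (E x) := fun x => (Nat.card_pos_iff.1 (hcard x ▸ hpos x)).1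
  have : Finite C := Finite.of_surjective (fun p : Σ x : C, E x => p.1) fun x => ⟨⟨x, (hne x).some⟩, rfl⟩
  letI := Fintype.ofFinite C
  have : ∀ x, Finite (E x) := fun x => Finite.of_injective (fun i => (⟨x, i⟩ : Σ x : C, E x)) sigma_mk_injective
  rw [Nat.card_congr e, Nat.card_sigma, Zeta.nPts]
  simp only [hcard]
  rw [← Finset.sum_fiberwise_of_maps_to (g := fun x : C => EGA4loc.residueDegree f x.1) (t := m.divisors)
    fun x _ => Nat.mem_divisors.2 ⟨x.2.2, hm⟩]
  refine Finset.sum_congr rfl fun d hd => ?_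
  rw [Finset.sum_congr rfl fun x hx => (Finset.mem_filter.1 hx).2, Finset.sum_const, smul_eq_mul, mul_comm]
  congr 1
  rw [Zeta.degCount, ← Nat.card_eq_finsetCard]
  exact Nat.card_congr
    { toFun := fun x => ⟨x.1.1, x.1.2.1, (Finset.mem_filter.1 x.2).2⟩
      invFun := fun x => ⟨⟨x.1, x.2.1, by rw [x.2.2]; exact (Nat.mem_divisors.1 hd).1⟩, Finset.mem_filter.2 ⟨Finset.mem_univ _, x.2.2⟩⟩
      left_inv := fun _ => rfl
      right_inv := fun _ => rfl }

end Groth.Misc10.FrobPts
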