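import Groth.Agent.Misc10.Weil.Points
import Groth.Agent.Misc10.FrobResidue

/-! The geometric Frobenius: image of the generic point and degree. -/

set_option autoImplicit false

universe u v w

namespace Groth.Misc10.Weil

open AlgebraicGeometry CategoryTheory WeilCoh

lemma essFiniteType_resHom {k : Type u} [Field k] {X : Scheme.{u}} (f : X ⟶ Spec (CommRingCat.of k))
    [LocallyOfFiniteType f] (x : X) :
    letI := (Groth.Variety2.Dim.resHom f x).toAlgebra
    Algebra.EssFiniteType k (X.residueField x) := by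
  obtain ⟨U, hU, hxU, -⟩ := exists_isAffineOpen_mem_and_subset (U := ⊤) (Set.mem_univ x)
  obtain ⟨φ, hφ, hft⟩ := Groth.Variety2.Dim.exists_algebra f hU
  letI := φ.hom.toAlgebra
  haveI : Algebra.FiniteType k Γ(X, U) := hft
  letI : Algebra Γ(X, U) (X.presheaf.stalk x) := (X.presheaf.germ U x hxU).hom.toAlgebra
  haveI hloc : IsLocalization.AtPrime (X.presheaf.stalk x) (hU.primeIdealOf ⟨x, hxU⟩).asIdeal :=
    hU.isLocalization_stalk ⟨x, hxU⟩
  letI : Algebra (X.presheaf.stalk x) (X.residueField x) := (X.residue x).hom.toAlgebra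
  letI : Algebra Γ(X, U) (X.residueField x) := (X.evaluation U x hxU).hom.toAlgebra
  haveI : IsScalarTower Γ(X, U) (X.presheaf.stalk x) (X.residueField x) :=
    IsScalarTower.of_algebraMap_eq fun _ => rfl
  haveI : Algebra.EssFiniteType Γ(X, U) (X.presheaf.stalk x) :=
    Algebra.EssFiniteType.of_isLocalization _ (hU.primeIdealOf ⟨x, hxU⟩).asIdeal.primeCompl
  haveI : Module.Finite (X.presheaf.stalk x) (X.residueField x) :=
    Module.Finite.of_surjective (Algebra.linearMap _ _) (X.residue_surjective x)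
  haveI : Algebra.EssFiniteType Γ(X, U) (X.residueField x) :=
    Algebra.EssFiniteType.comp _ (X.presheaf.stalk x) _
  letI := (Groth.Variety2.Dim.resHom f x).toAlgebra
  have hev : CommRingCat.ofHom (Groth.Variety2.Dim.resHom f x) = φ ≫ X.evaluation U x hxU := by
    apply Spec.map_injective
    rw [Groth.Variety2.Dim.resHom_spec, Spec.map_comp, hφ]
    change _ = Spec.map (X.presheaf.germ U x hxU ≫ X.residue x) ≫ _
    rw [Spec.map_comp, Category.assoc]
    have := hU.fromSpecStalk_eq_fromSpecStalk hxU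
    rw [IsAffineOpen.fromSpecStalk] at this
    rw [reassoc_of% this]
    exact Category.assoc _ _ _
  haveI : IsScalarTower k Γ(X, U) (X.residueField x) :=
    IsScalarTower.of_algebraMap_eq fun c => congr($(congrArg CommRingCat.Hom.hom hev) c)
  exact Algebra.EssFiniteType.comp k Γ(X, U) _

lemma hdeg_eq_of_fieldRange_eq {A : Type u} {B : Type v} {C : Type w} [Field A] [Field B] [Field C]
    (f : A →+* C) (g : B →+* C) (h : f.fieldRange = g.fieldRange) :
    FrobDeg.hdeg f = FrobDeg.hdeg g := by
  have hr : f.range = g.range := congrArg Subfield.toSubring h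
  let e : A ≃+* B := (RingEquiv.ofBijective f.rangeRestrict ⟨fun _ _ h => f.injective (congrArg Subtype.val h), f.rangeRestrict_surjective⟩).trans
    ((RingEquiv.subringCongr hr).trans
      (RingEquiv.ofBijective g.rangeRestrict ⟨fun _ _ h => g.injective (congrArg Subtype.val h), g.rangeRestrict_surjective⟩).symm)
  have he : ∀ a, g (e a) = f a := fun a => by
    let eB := RingEquiv.ofBijective g.rangeRestrict ⟨fun _ _ h => g.injective (congrArg Subtype.val h), g.rangeRestrict_surjective⟩
    exact congrArg Subtype.val (eB.apply_symm_apply _)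
  letI := f.toAlgebra
  letI := g.toAlgebra
  exact Algebra.finrank_eq_of_equiv_equiv e (RingEquiv.refl C) (RingHom.ext fun a => he a)

variable {k₀ : Type u} [Field k₀] [Finite k₀] {k : Type u} [Field k] [IsAlgClosed k] [Algebra k₀ k]

/-- At the generic point the geometric Frobenius has degree `q ^ dim` and fixes it. -/
theorem frob_generic {X : Scheme.{u}} (f : X ⟶ Spec (CommRingCat.of k₀))
    (FX : X ⟶ X) (hFb : FX.base = 𝟙 _) (hle : ∀ U : X.Opens, U ≤ FX ⁻¹ᵁ U)
    (hFapp : ∀ (U : X.Opens) (s : Γ(X, U)), (FX.appLE U U (hle U)).hom s = s ^ Nat.card k₀)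
    (Xb : Var k) (π : Xb.obj.left ⟶ X)
    (hπ : IsPullback π Xb.obj.hom f (Spec.map (CommRingCat.ofHom (algebraMap k₀ k))))
    (F : Xb ⟶ Xb) (hF : sm F ≫ π = π ≫ FX) [IrreducibleSpace Xb.obj.left] :
    sm F (genericPoint Xb.obj.left) = genericPoint Xb.obj.left ∧
      (sm F).residueDegree (genericPoint Xb.obj.left) = Nat.card k₀ ^ WeilCoh.dim Xb.obj.left := by
  set p := ringChar k₀
  haveI : CharP k₀ p := ringChar.charP k₀
  haveI hp : Fact p.Prime := ⟨CharP.char_is_prime k₀ p⟩
  haveI := Fintype.ofFinite k₀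
  obtain ⟨r, -, hr⟩ := FiniteField.card k₀ p
  haveI : CharP k p := charP_of_injective_algebraMap (algebraMap k₀ k).injective p
  haveI : ExpChar k p := ExpChar.prime hp.out
  haveI : PerfectField k := inferInstance
  haveI : PerfectRing k p := PerfectField.toPerfectRing p
  set η := genericPoint Xb.obj.left
  have := lft Xb
  letI := (Groth.Variety2.Dim.resHom Xb.obj.hom η).toAlgebra
  haveI : ExpChar (Xb.obj.left.residueField η) p :=
    expChar_of_injective_ringHom (Groth.Variety2.Dim.resHom Xb.obj.hom η).injective p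
  haveI := essFiniteType_resHom Xb.obj.hom η
  have hrange := FrobResidue.exists_residueFieldMap_eq_pow (algebraMap k₀ k) p r f FX hle
    (fun U s => by rw [hFapp, Nat.card_eq_fintype_card, hr]) Xb.obj.hom π hπ hFb (sm F) hF (sm_w F) η
  have hdeg : (sm F).residueDegree η = Nat.card k₀ ^ WeilCoh.dim Xb.obj.left := by
    show FrobDeg.hdeg ((sm F).residueFieldMap η).hom = _
    rw [hdeg_eq_of_fieldRange_eq _ _ hrange,
      FrobDeg.hdeg_iterateFrobenius k _ p r (WeilCoh.dim Xb.obj.left) ?_, Nat.card_eq_fintype_card, hr]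
    show Groth.Variety2.Dim.trdegAt Xb.obj.hom η = _
    rw [Groth.Variety2.Dim.height_toNat_spec, ← pdim_eq Xb, ENat.toNat_natCast, ← dim_eq_pdim_generic]
  refine ⟨?_, hdeg⟩
  have hd : pdim Xb.obj.left (sm F η) = pdim Xb.obj.left η :=
    pdim_image_of_residueDegree F η (by rw [hdeg]; exact pow_ne_zero _ Nat.card_pos.ne')
  by_contra hne
  have hlt : sm F η < η := lt_of_le_not_ge (genericPoint_specializes _) fun h =>
    hne ((Scheme.le_iff_specializes.1 h).antisymm (genericPoint_specializes _)).eq
  have h1 := Groth.Variety2.Dim.height_toNat_lt Xb.obj.hom hlt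
  rw [← pdim_eq Xb, ← pdim_eq Xb, hd] at h1
  exact lt_irrefl _ h1

end Groth.Misc10.Weil
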