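import Groth.Agent.Misc10.Weil.Formal

/-! Correspondences: classes on products as graded linear maps, the trace formula. -/

set_option autoImplicit false

universe u v w

namespace Groth.Misc10.Weil

open AlgebraicGeometry CategoryTheory WeilCoh

variable {k : Type u} [Field k] {P : ObjectProperty (Over (Spec (CommRingCat.of k)))}
variable {K : Type v} [Field K] (T : TheoryOn.{u, v, w} k P K)
variable {X Y Q Q' : P.FullSubcategory} (p : Q ⟶ X) (q : Q ⟶ Y)

lemma corr_tr_left {n : ℤ} (φ : T.gr Q n) (i : ℤ) (x : T.gr X i) (b : T.H Y) :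
    T.tr Q ((φ : T.H Q) * (T.pull p x * T.pull q b)) =
      sgn K i n * T.tr Y ((corr T p q φ i x : T.H Y) * b) := by
  rw [corr_tr, comm_sgn T (T.pull_mem p i _ x.2) φ.2, smul_mul_assoc, map_smul, smul_eq_mul,
    ← mul_assoc (sgn K i n), sgn_mul_self, one_mul, mul_assoc]

/-- A class on the product is determined by its correspondence action. -/
lemma eq_of_corr (hQ : IsProd p q) {n : ℤ} (φ : T.gr Q n) (ψ : T.H Q)
    (h : ∀ (i : ℤ) (x : T.gr X i) (j : ℤ) (b : T.H Y), b ∈ T.gr Y j →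
      T.tr Q (ψ * (T.pull p x * T.pull q b)) = sgn K i n * T.tr Y ((corr T p q φ i x : T.H Y) * b)) :
    ψ = (φ : T.H Q) :=
  ext_prod T p q hQ fun i j a b ha hb => by rw [h i ⟨a, ha⟩ j b hb, corr_tr_left T p q φ i ⟨a, ha⟩ b]

lemma corr_injective (hQ : IsProd p q) {n : ℤ} {φ ψ : T.gr Q n}
    (h : ∀ i, corr T p q φ i = corr T p q ψ i) : φ = ψ :=
  Subtype.ext (eq_of_corr T p q hQ ψ φ fun i x j b _ => by rw [← h, corr_tr_left T p q φ i x b])

lemma corr_surjective (hQ : IsProd p q) (n : ℤ)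
    (L : (i : ℤ) → T.gr X i →ₗ[K] T.gr Y (i + n + 2 * dZ Y - 2 * dZ Q)) :
    ∃ φ : T.gr Q n, ∀ i, corr T p q φ i = L i := by
  classical
  let eX := LinearEquiv.ofBijective (DirectSum.coeLinearMap (T.gr X)) (T.decomp X)
  let G : T.H X →ₗ[K] T.H Y :=
    DirectSum.toModule K ℤ (T.H Y) (fun i => sgn K i n • ((T.gr Y _).subtype ∘ₗ L i)) ∘ₗ eX.symm.toLinearMap
  have hG : ∀ (i : ℤ) (x : T.gr X i), G x = sgn K i n • (L i x : T.H Y) := by
    intro i x
    have he : eX.symm (x : T.H X) = DirectSum.lof K ℤ (fun i => T.gr X i) i x := by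
      rw [LinearEquiv.symm_apply_eq]
      show _ = DirectSum.coeLinearMap (T.gr X) _
      rw [DirectSum.lof_eq_of, DirectSum.coeLinearMap_of]
    show DirectSum.toModule K ℤ (T.H Y) _ (eX.symm (x : T.H X)) = _
    rw [he, DirectSum.toModule_lof]
    rfl
  let Λ : T.H Q →ₗ[K] K :=
    TensorProduct.lift (((LinearMap.mul K (T.H Y)).comp G).compr₂ (T.tr Y)) ∘ₗ
      (LinearEquiv.ofBijective _ (T.kunneth p q hQ)).symm.toLinearMap
  have hΛ : ∀ (a : T.H X) (b : T.H Y), Λ (T.pull p a * T.pull q b) = T.tr Y (G a * b) := by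
    intro a b
    have he : (LinearEquiv.ofBijective _ (T.kunneth p q hQ)).symm (T.pull p a * T.pull q b) =
        TensorProduct.tmul K a b := by
      rw [LinearEquiv.symm_apply_eq]; rfl
    show TensorProduct.lift _ ((LinearEquiv.ofBijective _ (T.kunneth p q hQ)).symm _) = _
    rw [he]; rfl
  obtain ⟨φ, hφ⟩ := (T.duality Q n (2 * dZ Q - n) (by ring)).bijective_left.2 (Λ.domRestrict _)
  refine ⟨φ, fun i => LinearMap.ext fun x => Subtype.ext (ext_tr T fun j b hb => ?_)⟩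
  rcases eq_or_ne (i + j) (2 * dZ Q - n) with hij | hij
  · have hm : T.pull p (x : T.H X) * T.pull q b ∈ T.gr Q (2 * dZ Q - n) :=
      hij ▸ grMul T (T.pull_mem p i _ x.2) (T.pull_mem q j b hb)
    have h1 : T.tr Q ((φ : T.H Q) * (T.pull p (x : T.H X) * T.pull q b)) = Λ (T.pull p (x : T.H X) * T.pull q b) :=
      LinearMap.congr_fun hφ ⟨_, hm⟩
    rw [corr_tr_left T p q φ i x b, hΛ, hG, smul_mul_assoc, map_smul, smul_eq_mul] at h1
    exact mul_left_cancel₀ (sgn_ne_zero _ _) h1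
  · rw [tr_mul_eq_zero T (corr T p q φ i x).2 hb (fun h => hij (by linarith)),
      tr_mul_eq_zero T (L i x).2 hb (fun h => hij (by linarith))]

/-! ### classes of sections -/

/-- `G` integrates like the class of the image of `j`. -/
structure IsImageClass (j : X ⟶ Q) (G : T.H Q) : Prop where
  mem : G ∈ T.gr Q (2 * (dZ Q - dZ X))
  tr_mul : ∀ c : T.H Q, T.tr Q (G * c) = T.tr X (T.pull j c)

lemma IsImageClass.comm {T : TheoryOn.{u, v, w} k P K} {j : X ⟶ Q} {G : T.H Q} (h : IsImageClass T j G)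
    (c : T.H Q) : G * c = c * G :=
  comm_of_even T h.mem (even_two_mul _) c

lemma pull_comp_apply {A B C : P.FullSubcategory} {f : A ⟶ B} {g : B ⟶ C} {h : A ⟶ C} (e : f ≫ g = h)
    (x : T.H C) : T.pull f (T.pull g x) = T.pull h x := by
  rw [← e, T.pull_comp]; rfl

lemma pull_id_apply {A : P.FullSubcategory} (x : T.H A) : T.pull (𝟙 A) x = x := by
  rw [T.pull_id]; rfl

lemma graph_formula {Xo Qo : P.FullSubcategory} (φ : Xo ⟶ Xo) (p q : Qo ⟶ Xo) (hQ : IsProd p q)
    (j : Xo ⟶ Qo) (hjp : j ≫ p = 𝟙 Xo) (hjq : j ≫ q = φ) {G : T.H Qo} (hG : IsImageClass T j G)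
    (ι : ℕ → Type) [∀ r, Fintype (ι r)] [∀ r, DecidableEq (ι r)]
    (e : (r : ℕ) → Module.Basis (ι r) K (T.gr Xo (r : ℤ)))
    (f : (r : ℕ) → ι r → T.gr Xo (2 * dZ Xo - r))
    (hef : ∀ r, r ≤ 2 * WeilCoh.dim Xo.obj.left → ∀ i l : ι r,
      T.tr Xo ((f r l : T.H Xo) * (e r i : T.H Xo)) = if i = l then 1 else 0) :
    G = ∑ r ∈ Finset.range (2 * WeilCoh.dim Xo.obj.left + 1), ∑ i : ι r,
        T.pull p (T.pull φ (e r i : T.H Xo)) * T.pull q (f r i : T.H Xo) := by
  classical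
  refine ext_prod T p q hQ fun la lb a b ha hb => ?_
  rw [hG.tr_mul, map_mul, pull_comp_apply T hjp, pull_comp_apply T hjq, pull_id_apply]
  simp only [Finset.sum_mul, map_sum]
  by_cases hdeg : la + lb = 2 * dZ Xo ∧ 0 ≤ lb ∧ lb ≤ 2 * dZ Xo
  · obtain ⟨h1, h2, h3⟩ := hdeg
    obtain ⟨r, rfl⟩ := Int.eq_ofNat_of_zero_le h2
    rw [Finset.sum_eq_single r]
    · have hterm : ∀ i, T.tr Qo (T.pull p (T.pull φ (e r i : T.H Xo)) * T.pull q (f r i : T.H Xo) *
          (T.pull p a * T.pull q b)) =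
          sgn K (2 * dZ Xo - r) la * (T.tr Xo (T.pull φ (e r i : T.H Xo) * a) * T.tr Xo ((f r i : T.H Xo) * b)) :=
        fun i => tr_prod_mul T p q hQ _ a _ b (f r i).2 ha
      simp only [hterm]
      have hrepr : ∀ i, T.tr Xo ((f r i : T.H Xo) * b) = (e r).repr ⟨b, hb⟩ i := fun i =>
        (repr_eq_tr T (e r) (fun l => (f r l : T.H Xo)) (fun a l => hef r (by omega) a l) ⟨b, hb⟩ i).symm
      have hb' : T.pull φ b = ∑ i, ((e r).repr ⟨b, hb⟩ i) • T.pull φ (e r i : T.H Xo) := by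
        conv_lhs => rw [show b = ((⟨b, hb⟩ : T.gr Xo (r : ℤ)) : T.H Xo) from rfl, ← (e r).sum_repr ⟨b, hb⟩]
        rw [Submodule.coe_sum, map_sum]
        exact Finset.sum_congr rfl fun i _ => by rw [Submodule.coe_smul, map_smul]
      have hcomm : T.tr Xo (a * T.pull φ b) = sgn K la r * T.tr Xo (T.pull φ b * a) := by
        rw [comm_sgn T ha (T.pull_mem φ _ b hb), map_smul, smul_eq_mul]
      rw [hcomm, hb', Finset.sum_mul, map_sum, Finset.mul_sum]
      refine Finset.sum_congr rfl fun i _ => ?_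
      rw [hrepr, smul_mul_assoc, map_smul, smul_eq_mul, show 2 * dZ Xo - (r : ℤ) = la by omega]
      rw [show sgn K la la = sgn K la r by
        rw [sgn_eq_zpow, sgn_eq_zpow]
        have he : la * la = la * (r : ℤ) + la * (2 * (dZ Xo - r)) := by
          rw [show la = 2 * dZ Xo - r by omega]; ring
        rw [he, zpow_add₀ (by norm_num : (-1 : K) ≠ 0), Even.neg_one_zpow ((even_two_mul _).mul_left _), mul_one]]
      ring
    · intro r' hr' hne
      refine Finset.sum_eq_zero fun i _ => ?_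
      have : T.tr Qo (T.pull p (T.pull φ (e r' i : T.H Xo)) * T.pull q (f r' i : T.H Xo) *
          (T.pull p a * T.pull q b)) = _ := tr_prod_mul T p q hQ _ a _ b (f r' i).2 ha
      rw [this, tr_mul_eq_zero T (f r' i).2 hb (fun h => hne (by omega)), mul_zero, mul_zero]
    · intro h; exact absurd (Finset.mem_range.2 (by omega)) h
  · have h0 : T.tr Xo (a * T.pull φ b) = 0 := by
      by_contra hne
      refine hdeg ⟨by by_contra h; exact hne (tr_mul_eq_zero T ha (T.pull_mem φ _ b hb) h), ?_, ?_⟩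
      · by_contra h; exact hne (by simp [eq_zero_of_lt T hb (Or.inl (by omega))])
      · by_contra h; exact hne (by simp [eq_zero_of_lt T hb (Or.inr (by omega))])
    rw [h0, eq_comm]
    refine Finset.sum_eq_zero fun r hr => Finset.sum_eq_zero fun i _ => ?_
    have hr' := Finset.mem_range.1 hr
    have : T.tr Qo (T.pull p (T.pull φ (e r i : T.H Xo)) * T.pull q (f r i : T.H Xo) *
        (T.pull p a * T.pull q b)) = _ := tr_prod_mul T p q hQ _ a _ b (f r i).2 ha
    rw [this]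
    by_contra hne
    have e1 : (r : ℤ) + la = 2 * dZ Xo := by
      by_contra h
      exact hne (by rw [tr_mul_eq_zero T (T.pull_mem φ _ _ (e r i).2) ha h]; ring)
    have e2 : 2 * dZ Xo - r + lb = 2 * dZ Xo := by
      by_contra h
      exact hne (by rw [tr_mul_eq_zero T (f r i).2 hb h]; ring)
    exact hdeg ⟨by omega, by omega, by omega⟩

/-- The Lefschetz trace formula, formal part. -/
lemma trace_formula {Xo Qo : P.FullSubcategory} (φ : Xo ⟶ Xo) (p q : Qo ⟶ Xo) (hQ : IsProd p q)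
    (j d : Xo ⟶ Qo) (hjp : j ≫ p = 𝟙 Xo) (hjq : j ≫ q = φ) (hdp : d ≫ p = 𝟙 Xo) (hdq : d ≫ q = 𝟙 Xo)
    {G D : T.H Qo} (hG : IsImageClass T j G) (hD : IsImageClass T d D) :
    T.tr Qo (G * D) = ∑ i ∈ Finset.range (2 * WeilCoh.dim Xo.obj.left + 1),
      (-1 : K) ^ i * LinearMap.trace K (T.gr Xo (i : ℤ)) (T.pullDeg φ (i : ℤ)) := by
  classical
  let ι : ℕ → Type := fun r => Fin (Module.finrank K (T.gr Xo (r : ℤ)))
  let e : (r : ℕ) → Module.Basis (ι r) K (T.gr Xo (r : ℤ)) := fun r => Module.finBasis K _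
  choose f hf using fun r : ℕ => exists_dual T (e r)
  rw [hG.comm, graph_formula T φ p q hQ j hjp hjq hG ι e f (fun r _ => hf r)]
  simp only [Finset.mul_sum, map_sum]
  refine Finset.sum_congr rfl fun r _ => ?_
  rw [trace_eq_tr T (e r) (fun l => (f r l : T.H Xo)) (hf r), Finset.mul_sum]
  refine Finset.sum_congr rfl fun i _ => ?_
  rw [hD.tr_mul, map_mul, pull_comp_apply T hdp, pull_comp_apply T hdq, pull_id_apply, pull_id_apply,
    comm_sgn T (T.pull_mem φ _ _ (e r i).2) (f r i).2, map_smul, smul_eq_mul]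
  congr 1
  rw [sgn_eq_zpow]
  have he : (r : ℤ) * (2 * dZ Xo - r) = (r : ℤ) + (-((r : ℤ) * ((r : ℤ) + 1)) + 2 * ((r : ℤ) * dZ Xo)) := by ring
  rw [he, zpow_add₀ (by norm_num : (-1 : K) ≠ 0), zpow_natCast,
    Even.neg_one_zpow (n := -((r : ℤ) * ((r : ℤ) + 1)) + 2 * ((r : ℤ) * dZ Xo))
      ((Int.even_mul_succ_self _).neg.add (even_two_mul _)), mul_one]

/-- The trace formula for a pair of correspondences in opposite directions. -/
lemma pair_trace_formula (hQ : IsProd p q) (p' : Q' ⟶ Y) (q' : Q' ⟶ X) (hQ' : IsProd p' q')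
    (σ : Q ⟶ Q') (hσ₁ : σ ≫ p' = q) (hσ₂ : σ ≫ q' = p) (r : ℤ)
    (φ : T.gr Q (2 * dZ X + r)) (ψ : T.gr Q' (2 * dZ Y - r))
    (c : ℕ → K) (hc : ∀ (i : ℕ) (A : T.gr X (i : ℤ) →ₗ[K] T.gr X (i : ℤ)),
      (∀ x, (A x : T.H X) = (corr T p' q' ψ ((i : ℤ) + (2 * dZ X + r) + 2 * dZ Y - 2 * dZ Q) (corr T p q φ i x) : T.H X)) →
      c i = LinearMap.trace K _ A) :
    T.tr Q ((φ : T.H Q) * T.pull σ (ψ : T.H Q')) =
      ∑ i ∈ Finset.range (2 * WeilCoh.dim X.obj.left + 1), (-1 : K) ^ i * c i := by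
  classical
  have hd := dim_prod T p q hQ
  have hd' := dim_prod T p' q' hQ'
  -- `tr` is compatible with the swap
  have hσ : ∀ z : T.H Q', T.tr Q (T.pull σ z) = T.tr Q' z := by
    intro z
    induction z using prod_induction T p' q' hQ' with
    | zero => simp
    | add a b ha hb => simp [ha, hb]
    | mul i j y x hy hx =>
      rw [map_mul, pull_comp_apply T hσ₁, pull_comp_apply T hσ₂,
        comm_sgn T (T.pull_mem q i y hy) (T.pull_mem p j x hx), map_smul, smul_eq_mul,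
        tr_prod_all T p q hQ, tr_prod_all T p' q' hQ']
      rcases eq_or_ne i (2 * dZ Y) with rfl | hi
      · rw [sgn_of_even_left _ (even_two_mul _)]; ring
      · rw [T.tr_vanish Y i y hy hi]; ring
  let ι : ℕ → Type := fun i => Fin (Module.finrank K (T.gr X (i : ℤ)))
  let e : (i : ℕ) → Module.Basis (ι i) K (T.gr X (i : ℤ)) := fun i => Module.finBasis K _
  choose f hf using fun i : ℕ => exists_dual T (e i)
  -- expansion of `φ`
  have hφ : (φ : T.H Q) = ∑ i ∈ Finset.range (2 * WeilCoh.dim X.obj.left + 1), ∑ l : ι i,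
      (-1 : K) ^ i • (T.pull p (f i l : T.H X) * T.pull q (corr T p q φ i (e i l) : T.H Y)) := by
    symm
    refine eq_of_corr T p q hQ φ _ fun s x t b hb => ?_
    simp only [Finset.sum_mul, map_sum, smul_mul_assoc, map_smul, smul_eq_mul]
    have hterm : ∀ (i : ℕ) (l : ι i),
        T.tr Q (T.pull p (f i l : T.H X) * T.pull q (corr T p q φ i (e i l) : T.H Y) *
          (T.pull p (x : T.H X) * T.pull q b)) =
        sgn K ((i : ℤ) + (2 * dZ X + r) + 2 * dZ Y - 2 * dZ Q) s *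
          (T.tr X ((f i l : T.H X) * x) * T.tr Y ((corr T p q φ i (e i l) : T.H Y) * b)) :=
      fun i l => tr_prod_mul T p q hQ _ _ _ _ (corr T p q φ i (e i l)).2 x.2
    simp only [hterm]
    by_cases hs : 0 ≤ s ∧ s ≤ 2 * dZ X
    · obtain ⟨n, rfl⟩ := Int.eq_ofNat_of_zero_le hs.1
      rw [Finset.sum_eq_single n]
      · conv_rhs => rw [← (e n).sum_repr x, map_sum, Submodule.coe_sum, Finset.sum_mul, map_sum, Finset.mul_sum]
        refine Finset.sum_congr rfl fun l _ => ?_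
        rw [← repr_eq_tr T (e n) (fun l => (f n l : T.H X)) (hf n) x l, map_smul, Submodule.coe_smul, smul_mul_assoc,
          map_smul, smul_eq_mul]
        have hsign : (-1 : K) ^ n * sgn K ((n : ℤ) + (2 * dZ X + r) + 2 * dZ Y - 2 * dZ Q) n =
            sgn K n (2 * dZ X + r) := by
          rw [sgn_eq_zpow, sgn_eq_zpow, ← zpow_natCast (-1 : K) n, ← zpow_add₀ (by norm_num : (-1 : K) ≠ 0),
            show (n : ℤ) + ((n : ℤ) + (2 * dZ X + r) + 2 * dZ Y - 2 * dZ Q) * n =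
              (n : ℤ) * (2 * dZ X + r) + ((n : ℤ) * ((n : ℤ) + 1) + 2 * ((dZ Y - dZ Q) * n)) by ring,
            zpow_add₀ (by norm_num : (-1 : K) ≠ 0),
            Even.neg_one_zpow (n := (n : ℤ) * ((n : ℤ) + 1) + 2 * ((dZ Y - dZ Q) * n))
              ((Int.even_mul_succ_self _).add (even_two_mul _)), mul_one]
        rw [← hsign]; ring
      · intro i _ hne
        refine Finset.sum_eq_zero fun l _ => ?_
        rw [tr_mul_eq_zero T (f i l).2 x.2 (fun h => hne (by omega))]; ring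
      · intro h; exact absurd (Finset.mem_range.2 (by omega)) h
    · have hx : x = 0 := Subtype.ext (eq_zero_of_lt T x.2 (by omega))
      simp [hx]
  conv_lhs => rw [hφ]
  simp only [Finset.sum_mul, map_sum, smul_mul_assoc, map_smul, smul_eq_mul]
  refine Finset.sum_congr rfl fun i hi => ?_
  have hi' := Finset.mem_range.1 hi
  have hjeq : ((i : ℤ) + (2 * dZ X + r) + 2 * dZ Y - 2 * dZ Q) + (2 * dZ Y - r) + 2 * dZ X - 2 * dZ Q' = i := by
    rw [hd, hd']; ring
  let A : T.gr X (i : ℤ) →ₗ[K] T.gr X (i : ℤ) := (LinearEquiv.ofEq _ _ (congrArg (T.gr X) hjeq)).toLinearMap ∘ₗ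
    corr T p' q' ψ _ ∘ₗ corr T p q φ i
  rw [hc i A (fun x => rfl), trace_eq_tr T (e i) (fun l => (f i l : T.H X)) (hf i), Finset.mul_sum]
  refine Finset.sum_congr rfl fun l _ => ?_
  congr 1
  set g := corr T p q φ i (e i l) with hg
  set F := (f i l : T.H X) with hF
  show _ = T.tr X (F * (corr T p' q' ψ _ g : T.H X))
  have e1 : T.pull p F * T.pull q (g : T.H Y) =
      sgn K (2 * dZ X - i) ((i : ℤ) + (2 * dZ X + r) + 2 * dZ Y - 2 * dZ Q) •
        T.pull σ (T.pull p' (g : T.H Y) * T.pull q' F) := by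
    rw [map_mul, pull_comp_apply T hσ₁, pull_comp_apply T hσ₂]
    exact comm_sgn T (T.pull_mem p _ _ (f i l).2) (T.pull_mem q _ _ g.2)
  rw [e1, smul_mul_assoc, ← map_mul, map_smul, hσ, smul_eq_mul, mul_assoc (T.pull p' (g : T.H Y)),
    comm_sgn T (T.pull_mem q' _ F (f i l).2) ψ.2, mul_smul_comm, map_smul, smul_eq_mul, ← mul_assoc (T.pull p' (g : T.H Y)),
    ← corr_tr T p' q' ψ _ g F, comm_sgn T (corr T p' q' ψ _ g).2 (f i l).2, map_smul, smul_eq_mul,
    ← mul_assoc, ← mul_assoc]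
  conv_rhs => rw [← one_mul (T.tr X _)]
  congr 1
  rw [sgn_eq_zpow, sgn_eq_zpow, sgn_eq_zpow, ← zpow_add₀ (by norm_num : (-1 : K) ≠ 0),
    ← zpow_add₀ (by norm_num : (-1 : K) ≠ 0)]
  refine Even.neg_one_zpow ?_
  rw [hjeq]
  have he : (2 * dZ X - (i:ℤ)) * ((i : ℤ) + (2 * dZ X + r) + 2 * dZ Y - 2 * dZ Q) +
      (2 * dZ X - (i:ℤ)) * (2 * dZ Y - r) + (i : ℤ) * (2 * dZ X - (i:ℤ)) =
      2 * ((2 * dZ X - (i:ℤ)) * ((i : ℤ) + dZ Y)) := by rw [hd]; ring
  exact he ▸ even_two_mul _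

end Groth.Misc10.Weil
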