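import Groth.Agent.Misc10.Weil.Points
import Groth.Prelude.Def_ChowOps

/-! Cycles and their classes. -/

set_option autoImplicit false

universe u v w

namespace Groth.Misc10.Weil

open AlgebraicGeometry CategoryTheory WeilCoh

variable {k : Type u} [Field k]

lemma delta_eq_pdim (X : Var k) {δ : X.obj.left → ℤ} (hδ : Cyc.DeltaCompat X.obj.hom δ (fun _ => 0))
    (x : X.obj.left) : δ x = (pdim X.obj.left x : ℤ) := by
  have := lft X
  obtain ⟨n, hn, h⟩ := hδ x
  rw [h, zero_add, Nat.cast_inj]
  have h1 := Groth.Variety2.Dim.trdegAt_eq_add X.obj.hom (𝟙 (Spec (CommRingCat.of k))) X.obj.hom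
    (Category.comp_id _) x
  rw [show Groth.Variety2.Dim.relTrdeg X.obj.hom x = n from hn, Groth.Variety2.Dim.height_toNat_spec,
    Groth.Variety2.Dim.height_toNat_spec, ← pdim_eq X, ENat.toNat_natCast] at h1
  have h0 : Order.height (X.obj.hom x) = 0 := by
    rw [Order.height_eq_zero]
    intro y _
    exact le_of_eq (Subsingleton.elim _ _)
  rw [h0, ENat.toNat_zero, Nat.cast_zero, zero_add, Nat.cast_inj] at h1
  exact h1.symm

lemma isClosed_of_pdim_eq_zero (X : Var k) {x : X.obj.left} (h : pdim X.obj.left x = 0) :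
    IsClosed ({x} : Set X.obj.left) := by
  have hmin : IsMin x := by
    rw [← Order.height_eq_zero, ← pdim_eq X, h, Nat.cast_zero]
  refine isClosed_of_closure_subset fun y hy => ?_
  have hxy : x ⤳ y := specializes_iff_mem_closure.2 hy
  exact ((Scheme.le_iff_specializes.1 (hmin (Scheme.le_iff_specializes.2 hxy))).antisymm hxy).eq

lemma finite_support (X : Var k) (α : AlgebraicCycle X.obj.left ℤ) : (Function.support α).Finite := by
  have := isProper X
  have : CompactSpace X.obj.left := QuasiCompact.compactSpace_of_compactSpace X.obj.hom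
  simpa using α.locallyFiniteSupport.finite_inter_support_of_isCompact (isCompact_univ : IsCompact (Set.univ : Set X.obj.left))

variable [IsAlgClosed k]

lemma residueDegree_hom_eq_one (X : Var k) (x : X.obj.left) (h : pdim X.obj.left x = 0) :
    Scheme.Hom.residueDegree X.obj.hom x = 1 := by
  have := lft X
  refine residueDegree_of_surjective _ x fun b => ?_
  have h1 : CommRingCat.ofHom (Groth.Variety2.Dim.resHom X.obj.hom x) =
      CommRingCat.ofHom (Groth.Variety2.Dim.resHom (𝟙 (Spec (CommRingCat.of k))) (X.obj.hom x)) ≫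
        Scheme.Hom.residueFieldMap X.obj.hom x := by
    apply Spec.map_injective
    rw [Spec.map_comp, Groth.Variety2.Dim.resHom_spec, Groth.Variety2.Dim.resHom_spec, ← Category.assoc,
      Scheme.Hom.SpecMap_residueFieldMap_fromSpecResidueField, Category.assoc, Category.comp_id]
  have h2 : CommRingCat.ofHom (Groth.Variety2.Dim.resHom X.obj.hom x) =
      (residueFieldIsoBase X.obj.hom x (isClosed_of_pdim_eq_zero X h)).inv := by
    apply Spec.map_injective
    rw [Groth.Variety2.Dim.resHom_spec, SpecMap_residueFieldIsoBase_inv]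
  obtain ⟨a, rfl⟩ : ∃ a, CommRingCat.ofHom (Groth.Variety2.Dim.resHom X.obj.hom x) a = b := by
    rw [h2]
    exact (residueFieldIsoBase X.obj.hom x (isClosed_of_pdim_eq_zero X h)).symm.commRingCatIsoToRingEquiv.surjective b
  exact ⟨_, (congrArg (fun g => g a) h1).symm⟩

variable {K : Type v} [Field K] (T : TheoryOn.{u, v, w} k (IsVar k) K)

omit [IsAlgClosed k] in
lemma tr_clCyc_mul (X : Var k) (α : AlgebraicCycle X.obj.left ℤ) (c : T.H X) :
    T.tr X (T.clCyc X α * c) = ∑ x ∈ (finite_support X α).toFinset, (α x : K) * T.tr X (T.cl X x * c) := by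
  rw [TheoryOn.clCyc, finsum_eq_finsetSum_of_support_subset _ (s := (finite_support X α).toFinset)]
  · simp [Finset.sum_mul, map_sum]
  · intro x hx
    simp only [Set.Finite.coe_toFinset, Function.mem_support] at *
    intro h; exact hx (by simp [h])

end Groth.Misc10.Weil
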