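import Groth.Agent.Misc10.Weil.Points
import Groth.Agent.Misc10.FrobResidue

/-! The local algebra at a fixed point of the geometric Frobenius. -/

set_option autoImplicit false

universe u

namespace Groth.Misc10.Weil

open AlgebraicGeometry CategoryTheory WeilCoh

/-- A solution of `x ^ q = x` in a local algebra over an algebraically closed field is a scalar. -/
lemma mem_range_of_pow_eq {k : Type u} [Field k] [IsAlgClosed k] {A : Type u} [CommRing A] [IsLocalRing A]
    (σ : k →+* A) (p : ℕ) [CharP k p] {Q : ℕ} (hQ : 1 < Q) (hpQ : p ∣ Q) {x : A} (hx : x ^ Q = x) :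
    x ∈ σ.range := by
  classical
  set P : Polynomial k := Polynomial.X ^ Q - Polynomial.X with hP
  have hne : P ≠ 0 := FiniteField.X_pow_card_sub_X_ne_zero k hQ
  have hmonic : P.Monic := Polynomial.monic_X_pow_sub (by simp only [Polynomial.degree_X]; exact_mod_cast hQ)
  have hnodup : P.roots.Nodup := Polynomial.nodup_roots (galois_poly_separable p Q hpQ)
  have hprod : (P.roots.map fun c => x - σ c).prod = 0 := by
    have h := congrArg (Polynomial.eval₂ σ x) ((IsAlgClosed.splits P).eq_prod_roots_of_monic hmonic)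
    rw [Polynomial.eval₂_multiset_prod, Multiset.map_map] at h
    simpa [P, hx] using h.symm
  by_contra hx'
  have hunit : ∃ c ∈ P.roots, ¬ IsUnit (x - σ c) := by
    by_contra hall
    push Not at hall
    have : IsUnit (P.roots.map fun c => x - σ c).prod := by
      refine Multiset.prod_induction IsUnit _ (fun a b => IsUnit.mul) isUnit_one fun a ha => ?_
      obtain ⟨c, hc, rfl⟩ := Multiset.mem_map.1 ha
      exact hall c hc
    rw [hprod] at this
    exact not_isUnit_zero this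
  obtain ⟨c, hc, hcu⟩ := hunit
  rw [← Multiset.cons_erase hc, Multiset.map_cons, Multiset.prod_cons] at hprod
  have hu : IsUnit ((P.roots.erase c).map fun c => x - σ c).prod := by
    refine Multiset.prod_induction IsUnit _ (fun a b => IsUnit.mul) isUnit_one fun a ha => ?_
    obtain ⟨d, hd, rfl⟩ := Multiset.mem_map.1 ha
    have hdc : d ≠ c := fun h => hnodup.notMem_erase (h ▸ hd)
    have h1 : IsUnit (σ c - σ d) := by
      rw [← map_sub]; exact (isUnit_iff_ne_zero.2 (sub_ne_zero.2 hdc.symm)).map σ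
    by_contra hn
    have := (IsLocalRing.maximalIdeal A).sub_mem ((IsLocalRing.mem_maximalIdeal _).2 hn)
      ((IsLocalRing.mem_maximalIdeal _).2 hcu)
    rw [show x - σ d - (x - σ c) = σ c - σ d by ring] at this
    exact (IsLocalRing.mem_maximalIdeal _).1 this h1
  exact hx' ⟨c, (sub_eq_zero.1 (hu.mul_left_eq_zero.1 hprod)).symm⟩

variable {k₀ k : Type u} [Field k₀] [Field k] [IsAlgClosed k] (σ₀ : k₀ →+* k)

/-- At a fixed point `w`, the scalars fill every quotient of the local ring in which `φ^* = id`. -/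
theorem surjective_of_fixed (p r : ℕ) [CharP k p] (hQ : 1 < p ^ r) (hr : p ∣ p ^ r)
    {X : Scheme.{u}} (f : X ⟶ Spec (CommRingCat.of k₀)) (G : X ⟶ X) (hGb : G.base = 𝟙 _)
    (hle : ∀ U : X.Opens, U ≤ G ⁻¹ᵁ U)
    (hGapp : ∀ (U : X.Opens) (s : Γ(X, U)), (G.appLE U U (hle U)).hom s = s ^ (p ^ r))
    {Y : Scheme.{u}} (h : Y ⟶ Spec (CommRingCat.of k)) (π : Y ⟶ X)
    (hπ : IsPullback π h f (Spec.map (CommRingCat.ofHom σ₀)))
    (φ : Y ⟶ Y) (hφ : φ ≫ π = π ≫ G) (w : Y)
    {A : Type u} [CommRing A] [IsLocalRing A] (ψ : Y.presheaf.stalk w →+* A)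
    (hψ : ∀ (V : Y.Opens) (hV : V ≤ φ ⁻¹ᵁ V) (hw : w ∈ V) (a : Γ(Y, V)),
      ψ (Y.presheaf.germ V w hw (φ.appLE V V hV a)) = ψ (Y.presheaf.germ V w hw a))
    (hsurj : Function.Surjective ψ) :
    ∃ σ : k →+* A, Function.Surjective σ := by
  obtain ⟨U, hU, hwU, -⟩ := exists_isAffineOpen_mem_and_subset (U := ⊤) (show π w ∈ (⊤ : X.Opens) from trivial)
  set V : Y.Opens := π ⁻¹ᵁ U ⊓ h ⁻¹ᵁ ⊤ with hVdef
  have hpush := (isIso_pushoutSection_iff hπ (US := ⊤) (UT := ⊤) (UX := U) (UY := V) le_top le_top rfl).1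
    (isIso_pushoutSection_of_isAffineOpen hπ _ _ _ (isAffineOpen_top _) (isAffineOpen_top _) hU)
  have : IsAffine U := hU
  have : IsAffine (⊤ : (Spec (CommRingCat.of k)).Opens) := isAffineOpen_top _
  have : IsAffine (⊤ : (Spec (CommRingCat.of k₀)).Opens) := isAffineOpen_top _
  have hV : IsAffineOpen V := .of_isIso (Scheme.Hom.isPullback_resLE hπ (US := ⊤) (UT := ⊤) (UX := U) (UY := V) le_top le_top rfl).isoPullback.hom
  have hw : w ∈ V := ⟨hwU, trivial⟩
  have hφV : V ≤ φ ⁻¹ᵁ V := by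
    intro y hy
    refine ⟨?_, trivial⟩
    have he : π (φ y) = π y := by
      rw [← Scheme.Hom.comp_apply, hφ, Scheme.Hom.comp_apply]
      exact congrArg (fun g : X.carrier ⟶ X.carrier => g (π y)) hGb
    show π (φ y) ∈ U
    rw [he]; exact hy.1
  let θ : Γ(Y, V) →+* A := ψ.comp (Y.presheaf.germ V w hw).hom
  let σ : k →+* A := θ.comp ((Scheme.ΓSpecIso (CommRingCat.of k)).inv ≫ h.appLE ⊤ V inf_le_right).hom
  refine ⟨σ, ?_⟩
  have hc : ∀ c, θ (h.appLE ⊤ V inf_le_right c) ∈ σ.range := fun c =>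
    ⟨(Scheme.ΓSpecIso (CommRingCat.of k)).hom c, by
      show θ (h.appLE ⊤ V inf_le_right ((Scheme.ΓSpecIso (CommRingCat.of k)).inv ((Scheme.ΓSpecIso (CommRingCat.of k)).hom c))) = _
      rw [Iso.hom_inv_id_apply]⟩
  have hs : ∀ s, θ (π.appLE U V inf_le_left s) ∈ σ.range := by
    intro s
    refine mem_range_of_pow_eq σ p hQ hr ?_
    have e : π.appLE U V inf_le_left ≫ φ.appLE V V hφV = G.appLE U U (hle U) ≫ π.appLE U V inf_le_left := by
      rw [Scheme.Hom.appLE_comp_appLE, Scheme.Hom.appLE_comp_appLE]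
      simp only [hφ]
    have e' : φ.appLE V V hφV (π.appLE U V inf_le_left s) = π.appLE U V inf_le_left (G.appLE U U (hle U) s) :=
      congrArg (fun g : Γ(X, U) ⟶ Γ(Y, V) => g s) e
    rw [← map_pow θ, ← map_pow (π.appLE U V inf_le_left).hom, ← hGapp, ← e']
    exact hψ V hφV hw _
  have hall : ∀ a : Γ(Y, V), θ a ∈ σ.range := by
    intro a
    have hle' : Subring.closure (Set.range (π.appLE U V inf_le_left).hom ∪ Set.range (h.appLE ⊤ V inf_le_right).hom) ≤
        Subring.comap θ σ.range :=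
      Subring.closure_le.2 (by rintro _ (⟨s, rfl⟩ | ⟨c, rfl⟩); exacts [hs s, hc c])
    exact hle' (FrobResidue.closure_eq_top_of_isPushout hpush ▸ Subring.mem_top a)
  letI := TopCat.Presheaf.algebra_section_stalk Y.presheaf ⟨w, hw⟩
  have := hV.isLocalization_stalk ⟨w, hw⟩
  intro y
  obtain ⟨z, rfl⟩ := hsurj y
  obtain ⟨⟨a, b⟩, hab⟩ := IsLocalization.surj (hV.primeIdealOf ⟨w, hw⟩).asIdeal.primeCompl z
  obtain ⟨ca, hca⟩ := hall a
  obtain ⟨cb, hcb⟩ := hall b
  have hu : IsUnit (θ b) :=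
    (IsLocalization.map_units (Y.presheaf.stalk w) b).map ψ
  have hcb0 : cb ≠ 0 := by
    rintro rfl
    rw [← hcb, map_zero] at hu
    exact not_isUnit_zero hu
  refine ⟨ca / cb, hu.mul_right_cancel ?_⟩
  have : ψ z * θ b = θ a := (map_mul ψ _ _).symm.trans (congrArg ψ hab)
  rw [this, ← hcb, ← map_mul, div_mul_cancel₀ _ hcb0, hca]

end Groth.Misc10.Weil
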