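import Groth.Agent.Misc10.Weil.Cycles
import Groth.Agent.Misc10.Weil.FixLocal
import Groth.Agent.Misc10.Weil.FrobPts

/-! The intersection of the graph of a Frobenius power with the diagonal counts fixed points. -/

set_option autoImplicit false

universe u v w

namespace Groth.Misc10.Weil

open AlgebraicGeometry CategoryTheory WeilCoh TopologicalSpace

lemma germ_appLE {Y Z : Scheme.{u}} (g : Y ⟶ Z) {U : Z.Opens} {V : Y.Opens} (e : V ≤ g ⁻¹ᵁ U) (w : Y) (hw : w ∈ V)
    (a : Γ(Z, U)) : g.stalkMap w (Z.presheaf.germ U (g w) (e hw) a) = Y.presheaf.germ V w hw (g.appLE U V e a) := by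
  refine (g.germ_stalkMap_apply U w (e hw) a).trans ?_
  exact (Y.presheaf.germ_res_apply (homOfLE e) w hw _).symm

lemma specMap_germ {Z : Scheme.{u}} {x ξ : Z} (h : ξ ⤳ x) (U : Z.Opens) (hx : x ∈ U) (a : Γ(Z, U)) :
    Cyc.specMap x ξ h (Z.presheaf.germ U x hx a) = Z.evaluation U ξ (h.mem_open U.2 hx) a :=
  congrArg (Z.residue ξ) (Z.presheaf.germ_stalkSpecializes_apply hx h a)

lemma finite_of_isClosed_forall_isClosed {α : Type u} [TopologicalSpace α] [NoetherianSpace α] [QuasiSober α]
    {S : Set α} (hS : IsClosed S) (h : ∀ a ∈ S, IsClosed ({a} : Set α)) : S.Finite := by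
  obtain ⟨T, hTf, hTc, hTi, hST⟩ := NoetherianSpace.exists_finite_set_isClosed_irreducible hS
  rw [hST]
  refine hTf.sUnion fun t ht => ?_
  obtain ⟨g, hg⟩ := QuasiSober.sober (hTi t ht) (hTc t ht)
  have hgS : g ∈ S := hST ▸ Set.mem_sUnion_of_mem hg.mem ht
  rw [← hg.def, (h g hgS).closure_eq]
  exact Set.finite_singleton g

variable {k : Type u} [Field k] [IsAlgClosed k] {K : Type v} [Field K] [CharZero K]
  (T : TheoryOn.{u, v, w} k (IsVar k) K)
  {k₀ : Type u} [Field k₀] [Finite k₀] [Algebra k₀ k]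

/-- The number of fixed points is the intersection of graph and diagonal. -/
theorem graph_inter_diag {X : Scheme.{u}} (f : X ⟶ Spec (CommRingCat.of k₀)) [LocallyOfFiniteType f]
    (G : X ⟶ X) (hGb : G.base = 𝟙 _) (hle : ∀ U : X.Opens, U ≤ G ⁻¹ᵁ U) {m : ℕ} (hm : m ≠ 0)
    (hGapp : ∀ (U : X.Opens) (s : Γ(X, U)), (G.appLE U U (hle U)).hom s = s ^ (Nat.card k₀ ^ m))
    (Xb : Var k) [IrreducibleSpace Xb.obj.left] (π : Xb.obj.left ⟶ X)
    (hπ : IsPullback π Xb.obj.hom f (Spec.map (CommRingCat.ofHom (algebraMap k₀ k))))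
    (φ : Xb ⟶ Xb) (hφ : sm φ ≫ π = π ≫ G)
    {Pb : Var k} (p q : Pb ⟶ Xb) (hP : IsProd p q) (j d : Xb ⟶ Pb)
    (hjp : j ≫ p = 𝟙 Xb) (hjq : j ≫ q = φ) (hdp : d ≫ p = 𝟙 Xb) (hdq : d ≫ q = 𝟙 Xb) :
    T.tr Pb (T.cl Pb (sm j (genericPoint Xb.obj.left)) * T.cl Pb (sm d (genericPoint Xb.obj.left))) =
      (Zeta.nPts f m : K) := by
  classical
  obtain ⟨c, _⟩ := CharP.exists k₀
  haveI : Fact c.Prime := ⟨CharP.char_is_prime k₀ c⟩
  letI := Fintype.ofFinite k₀
  obtain ⟨r, -, hr⟩ := FiniteField.card k₀ c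
  haveI : CharP k c := charP_of_injective_algebraMap (algebraMap k₀ k).injective c
  have hcard : Nat.card k₀ ^ m = c ^ ((r : ℕ) * m) := by rw [Nat.card_eq_fintype_card, hr, pow_mul]
  have hQ : 1 < c ^ ((r : ℕ) * m) := hcard ▸ Nat.one_lt_pow hm Finite.one_lt_card
  have hdvd : c ∣ c ^ ((r : ℕ) * m) := dvd_pow_self c (mul_ne_zero r.ne_zero hm)
  have := lft Xb
  have := lft Pb
  have := isProper Xb
  haveI hjc := isClosedImmersion_section j p hjp
  haveI hdc := isClosedImmersion_section d p hdp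
  set η := genericPoint Xb.obj.left
  set ξ := sm j η
  have apP : ∀ {a : Xb ⟶ Pb} (y : Xb.obj.left), a ≫ p = 𝟙 Xb → sm p (sm a y) = y := fun {a} y h =>
    congrArg (fun g : Xb ⟶ Xb => sm g y) h
  have hqj : ∀ y, sm q (sm j y) = sm φ y := fun y => congrArg (fun g : Xb ⟶ Xb => sm g y) hjq
  have hqd : ∀ y, sm q (sm d y) = y := fun y => congrArg (fun g : Xb ⟶ Xb => sm g y) hdq
  -- the components
  set S := (sm d) ⁻¹' closure ({ξ} : Set Pb.obj.left) with hS
  have hrange : closure ({ξ} : Set Pb.obj.left) ⊆ Set.range (sm j) :=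
    (sm j).isClosedEmbedding.isClosed_range.closure_subset_iff.2 (Set.singleton_subset_iff.2 ⟨η, rfl⟩)
  have hfix : ∀ w ∈ S, sm φ w = w := by
    intro w hw
    obtain ⟨v, hv⟩ := hrange hw
    have hvw : v = w := by rw [← apP v hjp, hv, apP w hdp]
    subst hvw
    rw [← hqj, hv, hqd]
  -- the local structure at the points of `S`
  have hloc : ∀ (w : Xb.obj.left) (hw : w ∈ S), IsClosed ({w} : Set Xb.obj.left) ∧ preimMult (sm d) ξ w hw = 1 := by
    intro w hw
    set spec := specializes_iff_mem_closure.mpr hw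
    set J := Ideal.map ((sm d).stalkMap w).hom (RingHom.ker (Cyc.specMap (sm d w) ξ spec)) with hJdef
    have hJne : J ≠ ⊤ := by
      refine ne_top_of_le_ne_top (IsLocalRing.maximalIdeal.isMaximal (Xb.obj.left.presheaf.stalk w)).ne_top ?_
      refine (Ideal.map_mono (IsLocalRing.le_maximalIdeal (RingHom.ker_ne_top _))).trans ?_
      exact ((IsLocalRing.local_hom_TFAE ((sm d).stalkMap w).hom).out 0 2).1
        (inferInstance : IsLocalHom ((sm d).stalkMap w).hom)
    haveI : Nontrivial (Xb.obj.left.presheaf.stalk w ⧸ J) := Ideal.Quotient.nontrivial_iff.2 hJne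
    haveI : IsLocalRing (Xb.obj.left.presheaf.stalk w ⧸ J) :=
      IsLocalRing.of_surjective' (Ideal.Quotient.mk J) Ideal.Quotient.mk_surjective
    obtain ⟨σ, hσ⟩ := surjective_of_fixed (algebraMap k₀ k) c ((r : ℕ) * m) hQ hdvd f G hGb hle
      (fun U s => by rw [hGapp, hcard]) Xb.obj.hom π hπ (sm φ) hφ w (Ideal.Quotient.mk J) (fun V hV hwV a => by
        set W : Pb.obj.left.Opens := (sm p) ⁻¹ᵁ V ⊓ (sm q) ⁻¹ᵁ V
        have hjW : V ≤ (sm j) ⁻¹ᵁ W := fun y hy =>
          ⟨show sm p (sm j y) ∈ V by rw [apP y hjp]; exact hy, show sm q (sm j y) ∈ V by rw [hqj]; exact hV hy⟩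
        have hdW : V ≤ (sm d) ⁻¹ᵁ W := fun y hy =>
          ⟨show sm p (sm d y) ∈ V by rw [apP y hdp]; exact hy, show sm q (sm d y) ∈ V by rw [hqd]; exact hy⟩
        have hη : η ∈ V := (genericPoint_specializes w).mem_open V.2 hwV
        set b := (sm φ).appLE V V hV a
        set e : Γ(Pb.obj.left, W) := (sm q).appLE V W inf_le_right a - (sm p).appLE V W inf_le_left b
        have comp : ∀ {a₁ : Xb ⟶ Pb} {b₁ : Pb ⟶ Xb} {c₁ : Xb ⟶ Xb} (h : a₁ ≫ b₁ = c₁) (e₁ : W ≤ (sm b₁) ⁻¹ᵁ V)
            (e₂ : V ≤ (sm a₁) ⁻¹ᵁ W) (e₃ : V ≤ (sm c₁) ⁻¹ᵁ V) (s : Γ(Xb.obj.left, V)),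
            (sm a₁).appLE W V e₂ ((sm b₁).appLE V W e₁ s) = (sm c₁).appLE V V e₃ s := by
          intro a₁ b₁ c₁ h e₁ e₂ e₃ s
          subst h
          exact congrArg (fun g : Γ(Xb.obj.left, V) ⟶ Γ(Xb.obj.left, V) => g s)
            (Scheme.Hom.appLE_comp_appLE (sm a₁) (sm b₁) V W V e₁ e₂)
        have hid : ∀ s, (sm (𝟙 Xb)).appLE V V (fun _ h => h) s = s := fun s => by
          have : Scheme.Hom.appLE (𝟙 Xb.obj.left) V V (fun _ h => h) = 𝟙 _ := by
            simp only [Scheme.Hom.appLE, Scheme.Hom.id_app]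
            refine (Category.id_comp _).trans ?_
            exact (congrArg _ (Subsingleton.elim _ (𝟙 _))).trans (Xb.obj.left.presheaf.map_id _)
          exact congrArg (fun g : Γ(Xb.obj.left, V) ⟶ Γ(Xb.obj.left, V) => g s) this
        have hje : (sm j).appLE W V hjW e = 0 := by
          simp only [e, map_sub]
          rw [comp hjq _ hjW hV, comp hjp _ hjW (fun _ h => h), hid, sub_self]
        have hde : (sm d).appLE W V hdW e = a - b := by
          simp only [e, map_sub]
          rw [comp hdq _ hdW (fun _ h => h), comp hdp _ hdW (fun _ h => h), hid, hid]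
        have hker : Pb.obj.left.presheaf.germ W (sm d w) (hdW hwV) e ∈
            RingHom.ker (Cyc.specMap (sm d w) ξ spec) := by
          rw [RingHom.mem_ker]
          refine (specMap_germ spec W (hdW hwV) e).trans ?_
          refine ((sm j).residueFieldMap η).hom.injective ?_
          rw [map_zero]
          refine (FrobResidue.residueFieldMap_evaluation (sm j) hjW η hη e).trans ?_
          rw [hje, map_zero]
        have := Ideal.mem_map_of_mem ((sm d).stalkMap w).hom hker
        rw [germ_appLE (sm d) hdW w hwV e, hde, map_sub] at this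
        exact (Ideal.Quotient.eq.2 this).symm) Ideal.Quotient.mk_surjective
    have hbij : Function.Bijective σ := ⟨σ.injective, hσ⟩
    have hmax : J.IsMaximal := Ideal.Quotient.maximal_of_isField J
      (MulEquiv.isField (Field.toIsField k) (RingEquiv.ofBijective σ hbij).symm.toMulEquiv)
    refine ⟨?_, ?_⟩
    · have hJm : J = IsLocalRing.maximalIdeal _ := IsLocalRing.eq_maximalIdeal hmax
      apply isClosed_of_pdim_eq_zero Xb
      -- the residue field is `k`
      have hJ0 : ∀ x ∈ J, (Xb.obj.left.residue w).hom x = 0 := fun x hx => by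
        rw [hJm] at hx; exact (IsLocalRing.residue_eq_zero_iff x).2 hx
      let g : k →+* Xb.obj.left.residueField w := (Ideal.Quotient.lift J (Xb.obj.left.residue w).hom hJ0).comp σ
      have hg : Function.Surjective g :=
        (Ideal.Quotient.lift_surjective_of_surjective J hJ0 (Xb.obj.left.residue_surjective w)).comp hσ
      letI := (Groth.Variety2.Dim.resHom Xb.obj.hom w).toAlgebra
      haveI : ExpChar k c := ExpChar.prime Fact.out
      haveI : PerfectRing k c := PerfectField.toPerfectRing c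
      haveI : ExpChar (Xb.obj.left.residueField w) c := expChar_of_injective_ringHom g.injective c
      haveI := essFiniteType_resHom Xb.obj.hom w
      have hsurjF : Function.Surjective (iterateFrobenius (Xb.obj.left.residueField w) c ((r : ℕ) * m)) := by
        intro y
        obtain ⟨x, rfl⟩ := hg y
        obtain ⟨z, rfl⟩ := (bijective_iterateFrobenius k c (n := (r : ℕ) * m)).2 x
        exact ⟨g z, by simp only [iterateFrobenius_def, map_pow]⟩
      obtain ⟨n, hn, hn'⟩ := Groth.Variety2.Dim.exists_trdegAt_eq_height Xb.obj.hom w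
      have h1 := FrobDeg.hdeg_iterateFrobenius k (Xb.obj.left.residueField w) c ((r : ℕ) * m) n hn
      have h2 : FrobDeg.hdeg (iterateFrobenius (Xb.obj.left.residueField w) c ((r : ℕ) * m)) = 1 := by
        rw [← hdeg_eq_of_fieldRange_eq (RingHom.id _) _ (by
          ext y; exact ⟨fun _ => hsurjF y, fun _ => ⟨y, rfl⟩⟩)]
        exact Module.finrank_self _
      rw [h2, eq_comm, Nat.pow_eq_one] at h1
      rw [← pdim_eq Xb, h1.resolve_left hQ.ne'] at hn'
      exact_mod_cast hn'
    · haveI : IsSimpleModule (Xb.obj.left.presheaf.stalk w) (Xb.obj.left.presheaf.stalk w ⧸ J) :=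
        isSimpleModule_iff_quot_maximal.2 ⟨J, hmax, ⟨LinearEquiv.refl _ _⟩⟩
      show (Module.length (Xb.obj.left.presheaf.stalk w) (Xb.obj.left.presheaf.stalk w ⧸ J)).toNat = 1
      rw [Module.length_eq_one]; rfl
  haveI : IsLocallyNoetherian Xb.obj.left := LocallyOfFiniteType.isLocallyNoetherian Xb.obj.hom
  haveI : CompactSpace Xb.obj.left := QuasiCompact.compactSpace_of_compactSpace Xb.obj.hom
  haveI : IsNoetherian Xb.obj.left := { }
  have hclS : IsClosed S := isClosed_closure.preimage (sm d).continuous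
  have hfin : S.Finite := finite_of_isClosed_forall_isClosed hclS fun a ha => (hloc a ha).1
  have hcomp : ∀ w, IsCompPt S w ↔ w ∈ S := fun w => ⟨fun h => h.1, fun h => ⟨h, fun w' hw' hsp => by
    have := (hloc w' hw').1
    have h2 : w ∈ closure ({w'} : Set Xb.obj.left) := specializes_iff_mem_closure.1 hsp
    rw [this.closure_eq, Set.mem_singleton_iff] at h2
    exact h2.symm⟩⟩
  have hdP := dim_prod T p q hP
  have hξ : pdim Pb.obj.left ξ = WeilCoh.dim Xb.obj.left := by
    rw [pdim_image_of_isPreimmersion, ← dim_eq_pdim_generic]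
  have hpull := T.cl_pull d ξ (fun w hw => by
    rw [pdim_of_isClosed _ (hloc w hw.1).1, hξ]; push_cast; omega) (Or.inr fun w hw => (hloc w hw.1).2)
  haveI := hfin.to_subtype
  letI := Fintype.ofFinite S
  have hsum : T.tr Pb (T.cl Pb ξ * T.cl Pb (sm d η)) = (Nat.card S : K) := by
    rw [← (isImageClass_section T d p hdp).comm, (isImageClass_section T d p hdp).tr_mul, hpull,
      ← finsum_comp_equiv (Equiv.subtypeEquivRight (fun w => (hcomp w).symm) : S ≃ {w // IsCompPt S w}),
      finsum_eq_sum_of_fintype, map_sum, Nat.card_eq_fintype_card, ← Finset.card_univ, ← nsmul_one, ← Finset.sum_const]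
    refine Finset.sum_congr rfl fun w _ => ?_
    show T.tr Xb ((preimMult (sm d) ξ w.1 w.2 : K) • T.cl Xb w.1) = 1
    rw [map_smul, tr_cl_closed T Xb (hloc w.1 w.2).1, (hloc w.1 w.2).2, Nat.cast_one, one_smul]
  rw [hsum]
  -- fixed points and `k`-points
  let toPt : S → FrobPts.FixedPts f k G := fun w =>
    ⟨pointOfClosedPoint Xb.obj.hom w.1 (hloc w.1 w.2).1 ≫ π, by
      rw [Category.assoc, hπ.w, ← Category.assoc, pointOfClosedPoint_comp, Category.id_comp], by
      rw [Category.assoc, ← hφ, ← Category.assoc]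
      congr 1
      refine ext_of_apply_closedPoint_eq Xb.obj.hom ?_ (pointOfClosedPoint_comp _ _ _) ?_
      · rw [Category.assoc, sm_w, pointOfClosedPoint_comp]
      · exact (congrArg (sm φ) (pointOfClosedPoint_apply _ _ _ _)).trans ((hfix w.1 w.2).trans (pointOfClosedPoint_apply _ _ _ _).symm)⟩
  have hbij : Function.Bijective toPt := by
    refine ⟨fun w w' h => ?_, fun s => ?_⟩
    · have h1 := congrArg Subtype.val h
      have h2 : pointOfClosedPoint Xb.obj.hom w.1 (hloc w.1 w.2).1 = pointOfClosedPoint Xb.obj.hom w'.1 (hloc w'.1 w'.2).1 :=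
        hπ.hom_ext h1 (by rw [pointOfClosedPoint_comp, pointOfClosedPoint_comp])
      have := congrArg (fun g : Spec (CommRingCat.of k) ⟶ Xb.obj.left => g (IsLocalRing.closedPoint k)) h2
      exact Subtype.ext ((pointOfClosedPoint_apply _ _ _ _).symm.trans (this.trans (pointOfClosedPoint_apply _ _ _ _)))
    · let t := hπ.lift s.1 (𝟙 _) (by rw [s.2.1, Category.id_comp])
      have ht1 : t ≫ π = s.1 := hπ.lift_fst _ _ _
      have ht2 : t ≫ Xb.obj.hom = 𝟙 _ := hπ.lift_snd _ _ _
      have htφ : t ≫ sm φ = t := hπ.hom_ext (by rw [Category.assoc, hφ, ← Category.assoc, ht1, s.2.2])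
        (by rw [Category.assoc, sm_w])
      set w := t (IsLocalRing.closedPoint k : Spec (CommRingCat.of k))
      have hdj : t ≫ sm d = t ≫ sm j := by
        refine hP.hom_ext ?_ ?_
        · rw [Category.assoc, Category.assoc]
          have h1 : sm d ≫ sm p = sm j ≫ sm p := congrArg (fun g : Xb ⟶ Xb => sm g) (hdp.trans hjp.symm)
          rw [h1]
        · rw [Category.assoc, Category.assoc]
          have h1 : sm d ≫ sm q = 𝟙 _ := congrArg (fun g : Xb ⟶ Xb => sm g) hdq
          have h2 : sm j ≫ sm q = sm φ := congrArg (fun g : Xb ⟶ Xb => sm g) hjq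
          rw [h1, h2, Category.comp_id, htφ]
      have hw : w ∈ S := by
        have h1 : sm d w = sm j w := congrArg (fun g : Spec (CommRingCat.of k) ⟶ Pb.obj.left => g (IsLocalRing.closedPoint k)) hdj
        show sm d w ∈ closure ({ξ} : Set Pb.obj.left)
        rw [h1, ← specializes_iff_mem_closure]
        exact (genericPoint_specializes w).map (sm j).continuous
      refine ⟨⟨w, hw⟩, Subtype.ext ?_⟩
      show pointOfClosedPoint Xb.obj.hom w _ ≫ π = s.1
      rw [← ht1]
      congr 1
      exact ext_of_apply_closedPoint_eq Xb.obj.hom (pointOfClosedPoint_comp _ _ _) ht2 (pointOfClosedPoint_apply _ _ _ _)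
  haveI : Finite (FrobPts.FixedPts f k G) := Finite.of_surjective toPt hbij.2
  rw [Nat.card_eq_of_bijective toPt hbij, FrobPts.natCard_fixedPts f G hGb hle hm hGapp]

end Groth.Misc10.Weil
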