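import Groth.Prelude.Def_WeilCoh
import Mathlib.LinearAlgebra.Trace
import Mathlib.LinearAlgebra.FiniteDimensional.Basic
import Mathlib.Tactic

/-! Formal consequences of Poincare duality, Kuenneth and the trace for a Weil cohomology theory. -/

set_option autoImplicit false

universe u v w

namespace Groth.Misc10.Weil

open AlgebraicGeometry CategoryTheory WeilCoh

variable {k : Type u} [Field k] {P : ObjectProperty (Over (Spec (CommRingCat.of k)))}
variable {K : Type v} [Field K] (T : TheoryOn.{u, v, w} k P K)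
variable {X Y Z Q : P.FullSubcategory}

set_option quotPrecheck false in
/-- the dimension as an integer -/
scoped notation:max "dZ" X:max => ((WeilCoh.dim (X).obj.left : ℕ) : ℤ)

/-- the sign `(-1)^(i j)` of graded commutativity -/
def sgn (K : Type v) [Field K] (i j : ℤ) : K := (-1 : K) ^ (i.natAbs * j.natAbs)

omit T in
lemma sgn_of_even_left {i : ℤ} (j : ℤ) (h : Even i) : sgn K i j = 1 :=
  Even.neg_one_pow ((Int.natAbs_even.2 h).mul_right _)

omit T in
lemma sgn_of_even_right {i : ℤ} (j : ℤ) (h : Even i) : sgn K j i = 1 :=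
  Even.neg_one_pow ((Int.natAbs_even.2 h).mul_left _)

omit T in
lemma sgn_comm (i j : ℤ) : sgn K i j = sgn K j i := by rw [sgn, sgn, mul_comm]

omit T in
lemma sgn_mul_self (i j : ℤ) : sgn K i j * sgn K i j = 1 := by
  rw [sgn, ← mul_pow]; simp

omit T in
lemma sgn_ne_zero (i j : ℤ) : sgn K i j ≠ 0 := fun h => by simpa [h] using sgn_mul_self (K := K) i j

omit T in
lemma sgn_eq_zpow (i j : ℤ) : sgn K i j = (-1 : K) ^ (i * j) := by
  rw [sgn, ← Int.natAbs_mul, ← zpow_natCast, Int.natCast_natAbs]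
  rcases abs_choice (i * j) with h | h <;> rw [h]
  rw [zpow_neg]
  rcases (Int.even_or_odd (i * j)) with he | ho
  · rw [Even.neg_one_zpow he, inv_one]
  · rw [Odd.neg_one_zpow ho, inv_neg, inv_one]

lemma grMul {i j : ℤ} {a b : T.H X} (ha : a ∈ T.gr X i) (hb : b ∈ T.gr X j) : a * b ∈ T.gr X (i + j) :=
  SetLike.mul_mem_graded ha hb

lemma grOne : (1 : T.H X) ∈ T.gr X 0 := SetLike.one_mem_graded (T.gr X)

lemma comm_sgn {i j : ℤ} {a b : T.H X} (ha : a ∈ T.gr X i) (hb : b ∈ T.gr X j) :
    a * b = sgn K i j • (b * a) := T.gradedComm X i j a b ha hb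

lemma homog_induction {motive : T.H X → Prop} (x : T.H X) (zero : motive 0)
    (add : ∀ a b, motive a → motive b → motive (a + b))
    (homog : ∀ (i : ℤ) (a : T.H X), a ∈ T.gr X i → motive a) : motive x := by
  have h : x ∈ ⨆ i, T.gr X i := by rw [(T.decomp X).submodule_iSup_eq_top]; trivial
  exact Submodule.iSup_induction (T.gr X) (motive := motive) h homog zero add

lemma comm_of_even {i : ℤ} {a : T.H X} (ha : a ∈ T.gr X i) (hi : Even i) (b : T.H X) : a * b = b * a := by
  induction b using homog_induction T with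
  | zero => simp
  | add b c hb hc => rw [mul_add, add_mul, hb, hc]
  | homog j b hb => rw [comm_sgn T ha hb, sgn_of_even_left _ hi, one_smul]

lemma tr_mul_eq_zero {i j : ℤ} {a b : T.H X} (ha : a ∈ T.gr X i) (hb : b ∈ T.gr X j)
    (h : i + j ≠ 2 * dZ X) : T.tr X (a * b) = 0 :=
  T.tr_vanish X _ _ (grMul T ha hb) h

lemma eq_zero_of_lt {i : ℤ} {a : T.H X} (ha : a ∈ T.gr X i) (hi : i < 0 ∨ 2 * dZ X < i) : a = 0 := by
  rwa [T.vanish X i hi, Submodule.mem_bot] at ha

lemma eq_zero_of_tr {i : ℤ} {a : T.H X} (ha : a ∈ T.gr X i)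
    (h : ∀ b ∈ T.gr X (2 * dZ X - i), T.tr X (a * b) = 0) : a = 0 := by
  have hp := T.duality X i (2 * dZ X - i) (by ring)
  have h0 : (⟨a, ha⟩ : T.gr X i) = 0 :=
    hp.bijective_left.1 (LinearMap.ext fun b => by simpa [pairing] using h b b.2)
  simpa using congrArg Subtype.val h0

lemma exists_decomp (x : T.H X) : ∃ f : DirectSum ℤ (fun i => T.gr X i),
    DirectSum.coeLinearMap (T.gr X) f = x := (T.decomp X).2 x

/-- A class is determined by its traces against all classes. -/
lemma ext_tr {x y : T.H X} (h : ∀ (j : ℤ), ∀ b ∈ T.gr X j, T.tr X (x * b) = T.tr X (y * b)) : x = y := by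
  classical
  rw [← sub_eq_zero]
  obtain ⟨f, hf⟩ := exists_decomp T (x - y)
  suffices f = 0 by rw [← hf, this, map_zero]
  ext i : 1
  refine Subtype.ext (eq_zero_of_tr T (f i).2 fun b hb => ?_)
  have h1 : T.tr X ((x - y) * b) = 0 := by rw [sub_mul, map_sub, h _ b hb, sub_self]
  have h2 : ∀ g : DirectSum ℤ (fun i => T.gr X i),
      T.tr X (DirectSum.coeLinearMap (T.gr X) g * b) = T.tr X ((g i : T.H X) * b) := by
    intro g
    induction g using DirectSum.induction_on with
    | zero => simp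
    | of l a =>
      rw [DirectSum.coeLinearMap_of]
      rcases eq_or_ne l i with rfl | hne
      · rw [DirectSum.of_eq_same]
      · rw [DirectSum.of_eq_of_ne _ _ _ hne.symm, tr_mul_eq_zero T a.2 hb (by omega)]
        simp
    | add g g' hg hg' => simp [add_mul, hg, hg']
  rw [← h2 f, hf, h1]

lemma exists_top (X : P.FullSubcategory) : ∃ ω ∈ T.gr X (2 * dZ X), T.tr X ω = 1 := by
  obtain ⟨w, hw⟩ := (T.tr_bijective X).2 1
  exact ⟨w, w.2, hw⟩

lemma eq_smul_top {ω a : T.H X} (hω : ω ∈ T.gr X (2 * dZ X)) (h1 : T.tr X ω = 1)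
    (ha : a ∈ T.gr X (2 * dZ X)) : a = T.tr X a • ω := by
  have := (T.tr_bijective X).1 (a₁ := ⟨a, ha⟩) (a₂ := ⟨T.tr X a • ω, Submodule.smul_mem _ _ hω⟩)
    (by show T.tr X a = T.tr X (T.tr X a • ω); simp [h1])
  exact congrArg Subtype.val this

lemma exists_scalar {x : T.H X} (hx : x ∈ T.gr X 0) : ∃ c : K, x = c • 1 := by
  obtain ⟨ω, hω, h1⟩ := exists_top T X
  refine ⟨T.tr X (x * ω), ext_tr T fun j b hb => ?_⟩
  rcases eq_or_ne j (2 * dZ X) with rfl | hj
  · conv_lhs => rw [eq_smul_top T hω h1 hb]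
    simp [mul_comm]
  · rw [tr_mul_eq_zero T hx hb (by simpa using hj),
      tr_mul_eq_zero T (Submodule.smul_mem _ _ (grOne T)) hb (by simpa using hj)]

lemma one_ne_zero' (X : P.FullSubcategory) : (1 : T.H X) ≠ 0 := by
  intro h
  obtain ⟨ω, -, h1⟩ := exists_top T X
  rw [← one_mul ω, h, zero_mul, map_zero] at h1
  exact one_ne_zero h1.symm

lemma smul_one_inj {c d : K} (h : c • (1 : T.H X) = d • 1) : c = d := by
  by_contra hne
  rw [← sub_eq_zero, ← sub_smul, smul_eq_zero] at h
  exact h.elim (sub_ne_zero.2 hne) (one_ne_zero' T X)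

/-! ### push-forward -/

lemma push_tr_deg (f : X ⟶ Y) (i : ℤ) (a : T.gr X i) (b : T.gr Y (2 * dZ X - i)) :
    T.tr Y ((T.push f i a : T.H Y) * b) = T.tr X ((a : T.H X) * T.pull f b) := by
  haveI := T.duality Y (i + 2 * dZ Y - 2 * dZ X) (2 * dZ X - i) (by ring)
  exact LinearMap.congr_fun (LinearEquiv.apply_symm_apply
    (pairing K (T.gr Y (i + 2 * dZ Y - 2 * dZ X)) (T.gr Y (2 * dZ X - i)) (T.tr Y)).toPerfPair
      (T.pushFunctional f i a)) b

/-- The characterisation of the push-forward. -/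
lemma push_tr (f : X ⟶ Y) (i : ℤ) (a : T.gr X i) (b : T.H Y) :
    T.tr Y ((T.push f i a : T.H Y) * b) = T.tr X ((a : T.H X) * T.pull f b) := by
  induction b using homog_induction T with
  | zero => simp
  | add b c hb hc => simp [mul_add, hb, hc]
  | homog j b hb =>
    rcases eq_or_ne j (2 * dZ X - i) with rfl | hj
    · exact push_tr_deg T f i a ⟨b, hb⟩
    · rw [tr_mul_eq_zero T a.2 (T.pull_mem f j b hb) (fun h => hj (by linarith)),
        tr_mul_eq_zero T (T.push f i a).2 hb (fun h => hj (by linarith))]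

lemma push_eq (f : X ⟶ Y) (i : ℤ) (a : T.gr X i) (y : T.H Y)
    (h : ∀ (j : ℤ), ∀ b ∈ T.gr Y j, T.tr X ((a : T.H X) * T.pull f b) = T.tr Y (y * b)) :
    (T.push f i a : T.H Y) = y :=
  ext_tr T fun j b hb => by rw [push_tr, h j b hb]

/-! ### products -/

variable (p : Q ⟶ X) (q : Q ⟶ Y)

lemma prod_induction (hQ : IsProd p q) {motive : T.H Q → Prop} (z : T.H Q) (zero : motive 0)
    (add : ∀ a b, motive a → motive b → motive (a + b))
    (mul : ∀ (i j : ℤ) (a : T.H X) (b : T.H Y), a ∈ T.gr X i → b ∈ T.gr Y j →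
      motive (T.pull p a * T.pull q b)) : motive z := by
  obtain ⟨t, rfl⟩ := (T.kunneth p q hQ).2 z
  induction t using TensorProduct.induction_on with
  | zero => rw [map_zero]; exact zero
  | add a b ha hb => rw [map_add]; exact add _ _ ha hb
  | tmul a b =>
    show motive (T.pull p a * T.pull q b)
    induction a using homog_induction T with
    | zero => simpa using zero
    | add a a' ha ha' => rw [map_add, add_mul]; exact add _ _ ha ha'
    | homog i a ha =>
      induction b using homog_induction T with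
      | zero => simpa using zero
      | add b b' hb hb' => rw [map_add, mul_add]; exact add _ _ hb hb'
      | homog j b hb => exact mul i j a b ha hb

lemma ext_prod (hQ : IsProd p q) {x y : T.H Q}
    (h : ∀ (i j : ℤ) (a : T.H X) (b : T.H Y), a ∈ T.gr X i → b ∈ T.gr Y j →
      T.tr Q (x * (T.pull p a * T.pull q b)) = T.tr Q (y * (T.pull p a * T.pull q b))) : x = y := by
  refine ext_tr T fun l z hz => ?_
  clear hz
  induction z using prod_induction T p q hQ with
  | zero => simp
  | add a b ha hb => simp [mul_add, ha, hb]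
  | mul i j a b ha hb => exact h i j a b ha hb

include T in
lemma dim_prod (hQ : IsProd p q) : dZ Q = dZ X + dZ Y := by
  obtain ⟨a, ha, ha1⟩ := exists_top T X
  obtain ⟨b, hb, hb1⟩ := exists_top T Y
  by_contra h
  have h1 := T.tr_prod p q hQ a b ha hb
  rw [tr_mul_eq_zero T (T.pull_mem p _ a ha) (T.pull_mem q _ b hb) (by omega), ha1, hb1, one_mul] at h1
  exact one_ne_zero h1.symm

lemma tr_prod_all (hQ : IsProd p q) (a : T.H X) (b : T.H Y) :
    T.tr Q (T.pull p a * T.pull q b) = T.tr X a * T.tr Y b := by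
  induction a using homog_induction T with
  | zero => simp
  | add a a' h h' => simp [add_mul, h, h']
  | homog i a ha =>
    induction b using homog_induction T with
    | zero => simp
    | add b b' h h' => simp [mul_add, h, h']
    | homog j b hb =>
      rcases eq_or_ne i (2 * dZ X) with rfl | hi
      · rcases eq_or_ne j (2 * dZ Y) with rfl | hj
        · exact T.tr_prod p q hQ a b ha hb
        · rw [T.tr_vanish Y j b hb hj, mul_zero, tr_mul_eq_zero T (T.pull_mem p _ a ha)
            (T.pull_mem q _ b hb) (by have := dim_prod T p q hQ; omega)]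
      · rw [T.tr_vanish X i a ha hi, zero_mul]
        have hd := dim_prod T p q hQ
        rcases eq_or_ne (i + j) (2 * dZ Q) with hij | hij
        · rcases lt_or_gt_of_ne hi with h | h
          · simp [eq_zero_of_lt T hb (Or.inr (by omega))]
          · simp [eq_zero_of_lt T ha (Or.inr (by omega))]
        · exact tr_mul_eq_zero T (T.pull_mem p _ a ha) (T.pull_mem q _ b hb) hij

lemma tr_prod_mul (hQ : IsProd p q) (a a' : T.H X) (b b' : T.H Y) {j i' : ℤ} (hb : b ∈ T.gr Y j)
    (ha' : a' ∈ T.gr X i') :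
    T.tr Q ((T.pull p a * T.pull q b) * (T.pull p a' * T.pull q b')) =
      sgn K j i' * (T.tr X (a * a') * T.tr Y (b * b')) := by
  have h : (T.pull p a * T.pull q b) * (T.pull p a' * T.pull q b') =
      sgn K j i' • (T.pull p (a * a') * T.pull q (b * b')) := by
    rw [map_mul, map_mul, mul_assoc, ← mul_assoc (T.pull q b),
      comm_sgn T (T.pull_mem q _ b hb) (T.pull_mem p _ a' ha')]
    simp [mul_assoc]
  rw [h, map_smul, tr_prod_all T p q hQ, smul_eq_mul]

/-! ### dual bases and traces -/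

lemma exists_dual {i : ℤ} {ι : Type} [Fintype ι] [DecidableEq ι] (e : Module.Basis ι K (T.gr X i)) :
    ∃ f : ι → T.gr X (2 * dZ X - i),
      ∀ a l, T.tr X ((f l : T.H X) * (e a : T.H X)) = if a = l then 1 else 0 := by
  have hp := T.duality X (2 * dZ X - i) i (by ring)
  choose f hf using fun l => hp.bijective_left.2 (e.coord l)
  refine ⟨f, fun a l => ?_⟩
  have h := LinearMap.congr_fun (hf l) (e a)
  simp only [Module.Basis.coord_apply, Module.Basis.repr_self, Finsupp.single_apply] at h
  exact h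

lemma repr_eq_tr {i : ℤ} {ι : Type} [Fintype ι] [DecidableEq ι] (e : Module.Basis ι K (T.gr X i))
    (f : ι → T.H X) (hef : ∀ a l, T.tr X (f l * (e a : T.H X)) = if a = l then 1 else 0)
    (x : T.gr X i) (l : ι) : e.repr x l = T.tr X (f l * (x : T.H X)) := by
  conv_rhs => rw [← e.sum_repr x]
  rw [Submodule.coe_sum, Finset.mul_sum, map_sum]
  simp [hef]

lemma trace_eq_tr {i : ℤ} {ι : Type} [Fintype ι] [DecidableEq ι] (e : Module.Basis ι K (T.gr X i))
    (f : ι → T.H X) (hef : ∀ a l, T.tr X (f l * (e a : T.H X)) = if a = l then 1 else 0)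
    (A : T.gr X i →ₗ[K] T.gr X i) :
    LinearMap.trace K _ A = ∑ l, T.tr X (f l * (A (e l) : T.H X)) := by
  rw [LinearMap.trace_eq_matrix_trace K e, Matrix.trace]
  exact Finset.sum_congr rfl fun l _ => by rw [Matrix.diag_apply, LinearMap.toMatrix_apply, repr_eq_tr T e f hef]

/-- the action of a class on the product as a correspondence -/
noncomputable def corr {n : ℤ} (φ : T.gr Q n) (i : ℤ) :
    T.gr X i →ₗ[K] T.gr Y (i + n + 2 * dZ Y - 2 * dZ Q) :=
  T.push q (i + n) ∘ₗ ((LinearMap.mulRight K (φ : T.H Q)).restrict (p := T.gr Q i) (q := T.gr Q (i + n))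
    (fun _ hx => SetLike.mul_mem_graded hx φ.2)) ∘ₗ T.pullDeg p i

lemma corr_tr {n : ℤ} (φ : T.gr Q n) (i : ℤ) (x : T.gr X i) (b : T.H Y) :
    T.tr Y ((corr T p q φ i x : T.H Y) * b) = T.tr Q (T.pull p x * φ * T.pull q b) :=
  push_tr T q (i + n) _ b

end Groth.Misc10.Weil
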