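import Groth.Agent.Misc10.Weil.FrobGeom
import Groth.Agent.Misc10.PairingCharpoly

/-! The geometric Frobenius and Poincaré duality. -/

set_option autoImplicit false

universe u v w

namespace Groth.Misc10.Weil

open AlgebraicGeometry CategoryTheory WeilCoh

variable {k : Type u} [Field k] [IsAlgClosed k] {K : Type v} [Field K] [CharZero K]
  (T : TheoryOn.{u, v, w} k (IsVar k) K)

/-- `F^*` multiplies the trace by the degree, for `F` fixing the generic point. -/
lemma tr_pull_of_generic (X : Var k) [IrreducibleSpace X.obj.left] (F : X ⟶ X) {N : ℕ}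
    (hF : sm F (genericPoint X.obj.left) = genericPoint X.obj.left ∧
      (sm F).residueDegree (genericPoint X.obj.left) = N) (c : T.H X) :
    T.tr X (T.pull F c) = (N : K) * T.tr X c := by
  have h := cl_push_all T F (genericPoint X.obj.left) c
  rwa [hF.1, hF.2, cl_generic, one_mul, one_mul] at h

variable {k₀ : Type u} [Field k₀] [Finite k₀] [Algebra k₀ k]

lemma frob_pairing {X : Scheme.{u}} (f : X ⟶ Spec (CommRingCat.of k₀))
    (FX : X ⟶ X) (hFb : FX.base = 𝟙 _) (hle : ∀ U : X.Opens, U ≤ FX ⁻¹ᵁ U)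
    (hFapp : ∀ (U : X.Opens) (s : Γ(X, U)), (FX.appLE U U (hle U)).hom s = s ^ Nat.card k₀)
    (Xb : Var k) (π : Xb.obj.left ⟶ X)
    (hπ : IsPullback π Xb.obj.hom f (Spec.map (CommRingCat.ofHom (algebraMap k₀ k))))
    (F : Xb ⟶ Xb) (hF : sm F ≫ π = π ≫ FX) (i : ℤ) :
    ∃ β : T.gr Xb (2 * dZ Xb - i) →ₗ[K] T.gr Xb i →ₗ[K] K, Function.Bijective β ∧
      ((Nat.card k₀ : K) ^ WeilCoh.dim Xb.obj.left) ≠ 0 ∧
      ∀ w v, β (T.pullDeg F (2 * dZ Xb - i) w) (T.pullDeg F i v) =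
        (Nat.card k₀ : K) ^ WeilCoh.dim Xb.obj.left * β w v := by
  have := irred Xb
  refine ⟨pairing K (T.gr Xb (2 * dZ Xb - i)) (T.gr Xb i) (T.tr Xb),
    (T.duality Xb (2 * dZ Xb - i) i (by ring)).bijective_left, pow_ne_zero _ ?_, fun w v => ?_⟩
  · exact Nat.cast_ne_zero.2 Nat.card_pos.ne'
  · show T.tr Xb (T.pull F (w : T.H Xb) * T.pull F (v : T.H Xb)) = _
    rw [← map_mul (T.pull F), tr_pull_of_generic T Xb F (frob_generic f FX hFb hle hFapp Xb π hπ F hF),
      Nat.cast_pow]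
    rfl

end Groth.Misc10.Weil
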