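import Groth.Agent.Misc10.Weil.Formal
import Mathlib.LinearAlgebra.Matrix.Basis
import Mathlib.LinearAlgebra.Matrix.NonsingularInverse

/-! Parity of the Euler characteristic weighted by the dimension. -/

set_option autoImplicit false

universe u v w

namespace Groth.Misc10.Weil

open AlgebraicGeometry CategoryTheory WeilCoh

variable {k : Type u} [Field k] {P : ObjectProperty (Over (Spec (CommRingCat.of k)))}
variable {K : Type v} [Field K] [CharZero K] (T : TheoryOn.{u, v, w} k P K)

omit [CharZero K] in
lemma finrank_symm (X : P.FullSubcategory) (i : ℤ) :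
    Module.finrank K (T.gr X (2 * dZ X - i)) = Module.finrank K (T.gr X i) := by
  rw [(LinearEquiv.ofBijective _ (T.duality X (2 * dZ X - i) i (by ring)).bijective_left).finrank_eq,
    Subspace.dual_finrank_eq]

lemma even_middle (X : P.FullSubcategory) {i : ℤ} (hi : Odd i) (h2 : 2 * dZ X - i = i) :
    Even (Module.finrank K (T.gr X i)) := by
  classical
  let e := Module.finBasis K (T.gr X i)
  obtain ⟨f, hf⟩ := exists_dual T e
  let f' : Fin (Module.finrank K (T.gr X i)) → T.gr X i := fun l => ⟨f l, (congrArg (fun j => (f l : T.H X) ∈ T.gr X j) h2).mp (f l).2⟩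
  let M : Matrix (Fin (Module.finrank K (T.gr X i))) (Fin (Module.finrank K (T.gr X i))) K :=
    fun a l => T.tr X ((e a : T.H X) * e l)
  let C : Matrix (Fin (Module.finrank K (T.gr X i))) (Fin (Module.finrank K (T.gr X i))) K :=
    fun l m => e.repr (f' l) m
  have hCM : C * M = 1 := by
    ext l a
    rw [Matrix.mul_apply, Matrix.one_apply, show (if l = a then (1 : K) else 0) = if a = l then 1 else 0 by simp [eq_comm],
      ← hf a l]
    conv_rhs => rw [show (f l : T.H X) = ((f' l : T.gr X i) : T.H X) from rfl, ← e.sum_repr (f' l), Submodule.coe_sum,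
      Finset.sum_mul, map_sum]
    exact Finset.sum_congr rfl fun m _ => by simp [C, M]
  have hdet : M.det ≠ 0 := by
    intro h
    simpa [Matrix.det_mul, h] using congrArg Matrix.det hCM
  have hskew : M.transpose = -M := by
    ext a l
    show T.tr X ((e l : T.H X) * e a) = -T.tr X ((e a : T.H X) * e l)
    rw [comm_sgn T (e l).2 (e a).2, map_smul, sgn_eq_zpow, Odd.neg_one_zpow (hi.mul hi)]
    simp
  have h := congrArg Matrix.det hskew
  rw [Matrix.det_transpose, Matrix.det_neg, Fintype.card_fin] at h
  have h1 : ((-1 : K)) ^ Module.finrank K (T.gr X i) = 1 := by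
    conv_lhs at h => rw [← one_mul M.det]
    exact (mul_right_cancel₀ hdet h).symm
  exact (neg_one_pow_eq_one_iff_even (by norm_num)).1 h1

lemma even_dim_mul_euler (X : P.FullSubcategory) :
    Even ((dZ X) * ∑ i ∈ Finset.range (2 * WeilCoh.dim X.obj.left + 1),
      (-1 : ℤ) ^ i * (Module.finrank K (T.gr X (i : ℤ)) : ℤ)) := by
  rcases Nat.even_or_odd (WeilCoh.dim X.obj.left) with h | h
  · exact Even.mul_right (by exact_mod_cast h) _
  refine Even.mul_left ?_ _
  set n := WeilCoh.dim X.obj.left
  set b : ℕ → ℕ := fun i => Module.finrank K (T.gr X (i : ℤ))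
  have hsum : Even (∑ i ∈ Finset.range (2 * n + 1), b i) := by
    rw [show 2 * n + 1 = n + (n + 1) by ring, Finset.sum_range_add,
      Finset.sum_range_succ' (fun i => b (n + i)) n, Nat.add_zero, ← Nat.add_assoc]
    refine Even.add ?_ (even_middle T X (by exact_mod_cast h) (by ring))
    have : ∑ i ∈ Finset.range n, b (n + (i + 1)) = ∑ i ∈ Finset.range n, b i := by
      rw [← Finset.sum_range_reflect b n]
      refine Finset.sum_congr rfl fun i hi => ?_
      have hi' := Finset.mem_range.1 hi
      show Module.finrank K (T.gr X ((n + (i + 1) : ℕ) : ℤ)) = Module.finrank K (T.gr X ((n - 1 - i : ℕ) : ℤ))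
      rw [← finrank_symm T X ((n - 1 - i : ℕ) : ℤ),
        show 2 * (n : ℤ) - ((n - 1 - i : ℕ) : ℤ) = ((n + (i + 1) : ℕ) : ℤ) by omega]
    rw [this]
    exact ⟨_, rfl⟩
  rw [← ZMod.intCast_eq_zero_iff_even]
  push_cast
  rw [show ((-1 : ZMod 2)) = 1 from rfl]
  simp only [one_pow, one_mul]
  have := (ZMod.natCast_eq_zero_iff_even).2 hsum
  push_cast at this
  exact this

end Groth.Misc10.Weil
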