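import Groth.Agent.Misc10.Weil.Corr
import Groth.Agent.Variety2.DimScheme
import Groth.Agent.Variety2.ProjBasics
import Mathlib.AlgebraicGeometry.AlgClosed.Basic
import Mathlib.RingTheory.Length

/-! The geometric inputs: dimensions, points, classes of images of sections. -/

set_option autoImplicit false

universe u v w

namespace Groth.Misc10.Weil

open AlgebraicGeometry CategoryTheory WeilCoh

variable {k : Type u} [Field k]

lemma lft (X : Var k) : LocallyOfFiniteType X.obj.hom := by
  have := X.property.1
  infer_instance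

lemma irred (X : Var k) : IrreducibleSpace X.obj.left := X.property.2.2

lemma isProper (X : Var k) : IsProper X.obj.hom := by
  obtain ⟨n, i, hi, hw⟩ := X.property.2.1
  rw [← hw]
  infer_instance

lemma sm_w {X Y : Var k} (f : X ⟶ Y) : sm f ≫ Y.obj.hom = X.obj.hom := Over.w f.hom

lemma natDim_eq {T : Type u} [TopologicalSpace T] {n : ℕ} (h : topologicalKrullDim T = ((n : ℕ∞) : WithBot ℕ∞)) :
    natDim T = n := by
  rw [natDim, h, WithBot.unbotD_coe, ENat.toNat_natCast]

lemma natDim_eq_zero (T : Type u) [TopologicalSpace T] [DiscreteTopology T] : natDim T = 0 := by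
  have h : topologicalKrullDim T ≤ 0 := topologicalKrullDim_zero_of_discreteTopology T
  rw [natDim]
  generalize topologicalKrullDim T = d at h ⊢
  cases d with
  | bot => rfl
  | coe a =>
    have : a ≤ 0 := WithBot.coe_le_coe.1 h
    rw [WithBot.unbotD_coe, nonpos_iff_eq_zero.1 this]; rfl

lemma pdim_eq (X : Var k) (x : X.obj.left) :
    (pdim X.obj.left x : ℕ∞) = Order.height x := by
  have := lft X
  obtain ⟨n, hn⟩ := Groth.Variety2.Dim.exists_height_eq X.obj.hom x
  rw [hn, show pdim X.obj.left x = n from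
    natDim_eq (by rw [Groth.Variety2.Dim.dim_closure_singleton, hn])]

lemma dim_eq_pdim_generic (X : Var k) [IrreducibleSpace X.obj.left] :
    WeilCoh.dim X.obj.left = pdim X.obj.left (genericPoint X.obj.left) := by
  refine natDim_eq ?_
  rw [Groth.Variety2.Dim.dim_eq_height_genericPoint, pdim_eq X]

lemma pdim_mono (X : Var k) {a b : X.obj.left} (h : b ⤳ a) : pdim X.obj.left a ≤ pdim X.obj.left b := by
  have h1 : Order.height a ≤ Order.height b := Order.height_mono h
  rw [← pdim_eq X, ← pdim_eq X] at h1
  exact_mod_cast h1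

lemma pdim_le_dim (X : Var k) (x : X.obj.left) : pdim X.obj.left x ≤ WeilCoh.dim X.obj.left := by
  have := irred X
  rw [dim_eq_pdim_generic X]
  exact pdim_mono X (genericPoint_specializes x)

lemma codim_cast (X : Var k) (x : X.obj.left) :
    (codim X.obj.left x : ℤ) = dZ X - (pdim X.obj.left x : ℤ) := by
  rw [codim, Nat.cast_sub (pdim_le_dim X x)]

lemma pdim_of_isClosed (X : Scheme.{u}) {x : X} (h : IsClosed ({x} : Set X)) : pdim X x = 0 := by
  have : Subsingleton (closure ({x} : Set X)) := ⟨fun a b => Subtype.ext <| by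
    have ha : (a : X) ∈ ({x} : Set X) := h.closure_eq.le a.2
    have hb : (b : X) ∈ ({x} : Set X) := h.closure_eq.le b.2
    rw [Set.mem_singleton_iff] at ha hb
    rw [ha, hb]⟩
  exact natDim_eq_zero _

lemma pdim_image_of_isPreimmersion {X Y : Var k} (f : X ⟶ Y) [IsPreimmersion (sm f)] (x : X.obj.left) :
    pdim Y.obj.left (sm f x) = pdim X.obj.left x := by
  have := lft X
  have := lft Y
  have h := Groth.Variety2.Dim.height_eq_of_isPreimmersion X.obj.hom Y.obj.hom (sm f) (sm_w f) x
  rw [← pdim_eq X, ← pdim_eq Y] at h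
  exact_mod_cast h

lemma pdim_image_of_residueDegree {X Y : Var k} (f : X ⟶ Y) (x : X.obj.left)
    (h : (sm f).residueDegree x ≠ 0) : pdim Y.obj.left (sm f x) = pdim X.obj.left x := by
  have := lft X
  have := lft Y
  have h0 : Groth.Variety2.Dim.relTrdeg (sm f) x = 0 := by
    unfold Groth.Variety2.Dim.relTrdeg
    letI := ((sm f).residueFieldMap x).hom.toAlgebra
    have hfin : Module.Finite (Y.obj.left.residueField (sm f x)) (X.obj.left.residueField x) :=
      Module.finite_of_finrank_pos (Nat.pos_of_ne_zero h)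
    exact trdeg_eq_zero
  have h1 := Groth.Variety2.Dim.trdegAt_eq_add X.obj.hom Y.obj.hom (sm f) (sm_w f) x
  rw [h0, add_zero, Groth.Variety2.Dim.height_toNat_spec, Groth.Variety2.Dim.height_toNat_spec,
    ← pdim_eq X, ← pdim_eq Y] at h1
  simp only [ENat.toNat_natCast] at h1
  exact_mod_cast h1.symm

/-! ### sections -/

lemma isClosedImmersion_section {X Q : Var k} (j : X ⟶ Q) (p : Q ⟶ X) (h : j ≫ p = 𝟙 X) :
    IsClosedImmersion (sm j) := by
  have hh : sm j ≫ sm p = 𝟙 X.obj.left :=
    congrArg (fun f : X ⟶ X => sm f) h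
  have := isProper X
  have := isProper Q
  have : IsSeparated (sm p ≫ X.obj.hom) := by rw [sm_w]; infer_instance
  have : IsSeparated (sm p) := IsSeparated.of_comp (sm p) X.obj.hom
  have : IsClosedImmersion (sm j ≫ sm p) := by rw [hh]; infer_instance
  exact IsClosedImmersion.of_comp (sm j) (sm p)

lemma residueDegree_of_surjective {X Y : Scheme.{u}} (f : X ⟶ Y) (x : X)
    (h : Function.Surjective (f.residueFieldMap x)) : f.residueDegree x = 1 := by
  letI := (f.residueFieldMap x).hom.toAlgebra
  have e : Y.residueField (f x) ≃ₗ[Y.residueField (f x)] X.residueField x :=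
    LinearEquiv.ofBijective (Algebra.linearMap _ _) ⟨RingHom.injective _, h⟩
  exact e.finrank_eq.symm.trans (Module.finrank_self _)

lemma residueDegree_of_isPreimmersion {X Y : Scheme.{u}} (f : X ⟶ Y) [IsPreimmersion f] (x : X) :
    f.residueDegree x = 1 :=
  residueDegree_of_surjective f x (Groth.Variety2.Dim.residueFieldMap_surjective f x)

/-! ### the point -/

variable [IsAlgClosed k]

lemma exists_closed_point (X : Var k) : ∃ x : X.obj.left, IsClosed ({x} : Set X.obj.left) := by
  have := isProper X
  have := irred X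
  have : CompactSpace X.obj.left := QuasiCompact.compactSpace_of_compactSpace X.obj.hom
  obtain ⟨x, -, hx⟩ := IsClosed.exists_closed_singleton (S := (Set.univ : Set X.obj.left)) isClosed_univ
    Set.univ_nonempty
  exact ⟨x, hx⟩

lemma isVar_point (X : Var k) : IsVar k (Over.mk (𝟙 (Spec (CommRingCat.of k)))) := by
  have := lft X
  obtain ⟨x, hx⟩ := exists_closed_point X
  obtain ⟨n, i, hi, hw⟩ := X.property.2.1
  refine ⟨inferInstanceAs (Smooth (𝟙 (Spec (CommRingCat.of k)))), ⟨n, pointOfClosedPoint X.obj.hom x hx ≫ i, ?_, ?_⟩, ?_⟩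
  · have := isProper X
    have := isClosedImmersion_of_comp_eq_id _ _ (pointOfClosedPoint_comp X.obj.hom x hx)
    exact inferInstanceAs (IsClosedImmersion (pointOfClosedPoint X.obj.hom x hx ≫ i))
  · refine (Category.assoc _ _ _).trans ?_
    rw [hw]
    exact pointOfClosedPoint_comp _ _ _
  · exact inferInstanceAs (IrreducibleSpace (Spec (CommRingCat.of k)))

/-- `Spec k` as an object. -/
noncomputable def ptObj (X : Var k) : Var k := ⟨Over.mk (𝟙 _), isVar_point X⟩

lemma subsingleton_pt (X : Var k) : Subsingleton (ptObj X).obj.left :=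
  inferInstanceAs (Subsingleton (PrimeSpectrum k))

lemma dim_ptObj (X : Var k) : WeilCoh.dim (ptObj X).obj.left = 0 := by
  have := subsingleton_pt X
  exact natDim_eq_zero _

/-- The morphism from the point given by a closed point. -/
noncomputable def ptHom (X : Var k) (x : X.obj.left) (hx : IsClosed ({x} : Set X.obj.left)) : ptObj X ⟶ X :=
  haveI := lft X
  ObjectProperty.homMk (Over.homMk (pointOfClosedPoint X.obj.hom x hx) (pointOfClosedPoint_comp _ _ _))

lemma ptHom_apply (X : Var k) (x : X.obj.left) (hx : IsClosed ({x} : Set X.obj.left)) (a : (ptObj X).obj.left) :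
    sm (ptHom X x hx) a = x := by
  have := lft X
  exact pointOfClosedPoint_apply X.obj.hom x hx a

lemma isClosedImmersion_ptHom (X : Var k) (x : X.obj.left) (hx : IsClosed ({x} : Set X.obj.left)) :
    IsClosedImmersion (sm (ptHom X x hx)) := by
  have := lft X
  have := isProper X
  have := subsingleton_pt X
  exact isClosedImmersion_of_comp_eq_id (X := X.obj.left) (Y := Spec (CommRingCat.of k)) X.obj.hom
    (pointOfClosedPoint X.obj.hom x hx) (pointOfClosedPoint_comp X.obj.hom x hx)

lemma preimMult_eq_one_of_field {X Y : Scheme.{u}} (f : X ⟶ Y) (ξ : Y) (w : X)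
    (h : f w ∈ closure ({ξ} : Set Y)) (hF : IsField (X.presheaf.stalk w)) : preimMult f ξ w h = 1 := by
  letI := hF.toField
  set I := RingHom.ker (Cyc.specMap (f w) ξ (specializes_iff_mem_closure.mpr h))
  have hne : I.map (f.stalkMap w).hom ≠ ⊤ := by
    refine ne_top_of_le_ne_top (IsLocalRing.maximalIdeal.isMaximal (X.presheaf.stalk w)).ne_top ?_
    refine (Ideal.map_mono (IsLocalRing.le_maximalIdeal (RingHom.ker_ne_top _))).trans ?_
    exact ((IsLocalRing.local_hom_TFAE (f.stalkMap w).hom).out 0 2).1
      (inferInstance : IsLocalHom (f.stalkMap w).hom)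
  have hbot : I.map (f.stalkMap w).hom = ⊥ := (Ideal.eq_bot_or_top _).resolve_right hne
  show (Module.length (X.presheaf.stalk w) _).toNat = 1
  rw [(Submodule.quotEquivOfEqBot _ hbot).length_eq]
  have : IsSimpleModule (X.presheaf.stalk w) (X.presheaf.stalk w) := inferInstance
  rw [Module.length_eq_one]; rfl

variable {K : Type v} [Field K] (T : TheoryOn.{u, v, w} k (IsVar k) K)

/-- The class of the whole variety is `1`. -/
lemma cl_generic (X : Var k) [IrreducibleSpace X.obj.left] : T.cl X (genericPoint X.obj.left) = 1 := by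
  set η := genericPoint X.obj.left
  obtain ⟨c, hc⟩ := exists_scalar T (x := T.cl X η) (by
    have h := T.cl_mem X η
    rwa [codim_cast, ← dim_eq_pdim_generic, sub_self, mul_zero] at h)
  obtain ⟨x, hx⟩ := exists_closed_point X
  let i := ptHom X x hx
  have := subsingleton_pt X
  have hmem : ∀ w : (ptObj X).obj.left, sm i w ∈ closure ({η} : Set X.obj.left) := fun w => by
    rw [genericPoint_closure]; trivial
  have hcomp : ∀ w : (ptObj X).obj.left, IsCompPt ((sm i) ⁻¹' closure ({η} : Set X.obj.left)) w :=
    fun w => ⟨hmem w, fun w' _ _ => Subsingleton.elim _ _⟩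
  have hfield : ∀ w : (ptObj X).obj.left, IsField ((ptObj X).obj.left.presheaf.stalk w) := by
    intro w
    have : AlgebraicGeometry.IsIntegral (ptObj X).obj.left :=
      inferInstanceAs (AlgebraicGeometry.IsIntegral (Spec (CommRingCat.of k)))
    have e := ((ptObj X).obj.left.presheaf.stalkCongr (Inseparable.of_eq (Subsingleton.elim w
      (genericPoint (ptObj X).obj.left)))).commRingCatIsoToRingEquiv
    exact MulEquiv.isField (Field.toIsField ((ptObj X).obj.left.functionField)) e.toMulEquiv
  have hpull := T.cl_pull i η (fun w _ => by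
      rw [pdim_of_isClosed _ (isClosed_discrete _), dim_ptObj, ← dim_eq_pdim_generic X]; simp)
    (Or.inr fun w hw => preimMult_eq_one_of_field _ _ _ _ (hfield w))
  let w₀ : (ptObj X).obj.left := IsLocalRing.closedPoint k
  have : Unique {w : (ptObj X).obj.left // IsCompPt ((sm i) ⁻¹' closure ({η} : Set X.obj.left)) w} :=
    ⟨⟨⟨w₀, hcomp w₀⟩⟩, fun a => Subtype.ext (Subsingleton.elim _ _)⟩
  rw [finsum_unique, preimMult_eq_one_of_field _ _ _ _ (hfield _), ((T.point (ptObj X) (dim_ptObj X)).1 _),
    hc, map_smul, map_one, Nat.cast_one] at hpull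
  rw [hc, smul_one_inj T hpull, one_smul]

omit [IsAlgClosed k] in
/-- The push-forward identity in all degrees. -/
lemma cl_push_all {X Y : Var k} (f : X ⟶ Y) (ξ : X.obj.left) (c : T.H Y) :
    T.tr X (T.cl X ξ * T.pull f c) = ((sm f).residueDegree ξ : K) * T.tr Y (T.cl Y (sm f ξ) * c) := by
  induction c using homog_induction T with
  | zero => simp
  | add a b ha hb => simp [mul_add, ha, hb]
  | homog j c hc =>
    rcases eq_or_ne j (2 * (pdim X.obj.left ξ : ℤ)) with rfl | hj
    · exact T.cl_push f ξ c hc
    · rw [tr_mul_eq_zero T (T.cl_mem X ξ) (T.pull_mem f j c hc) (by rw [codim_cast]; omega)]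
      rcases eq_or_ne ((sm f).residueDegree ξ) 0 with h0 | h0
      · simp [h0]
      · rw [tr_mul_eq_zero T (T.cl_mem Y _) hc
          (by rw [codim_cast, pdim_image_of_residueDegree f ξ h0]; omega), mul_zero]

omit [IsAlgClosed k] in
lemma tr_cl_preimmersion {X Y : Var k} (f : X ⟶ Y) [IsPreimmersion (sm f)] (ξ : X.obj.left) (c : T.H Y) :
    T.tr Y (T.cl Y (sm f ξ) * c) = T.tr X (T.cl X ξ * T.pull f c) := by
  rw [cl_push_all T f ξ c, residueDegree_of_isPreimmersion, Nat.cast_one, one_mul]

lemma isImageClass_section {X Q : Var k} [IrreducibleSpace X.obj.left] (j : X ⟶ Q) (p : Q ⟶ X) (h : j ≫ p = 𝟙 X) :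
    IsImageClass T j (T.cl Q (sm j (genericPoint X.obj.left))) := by
  have := isClosedImmersion_section j p h
  refine ⟨?_, fun c => ?_⟩
  · have hm := T.cl_mem Q (sm j (genericPoint X.obj.left))
    rwa [codim_cast, pdim_image_of_isPreimmersion, ← dim_eq_pdim_generic] at hm
  · rw [tr_cl_preimmersion, cl_generic, one_mul]

lemma tr_cl_closed (X : Var k) {x : X.obj.left} (hx : IsClosed ({x} : Set X.obj.left)) :
    T.tr X (T.cl X x) = 1 := by
  have := isClosedImmersion_ptHom X x hx
  have h := tr_cl_preimmersion T (ptHom X x hx) (IsLocalRing.closedPoint k : Spec (CommRingCat.of k)) 1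
  rw [show sm (ptHom X x hx) (IsLocalRing.closedPoint k : Spec (CommRingCat.of k)) = x from ptHom_apply X x hx _,
    map_one, mul_one, mul_one] at h
  exact h.trans ((congrArg (T.tr (ptObj X)) ((T.point (ptObj X) (dim_ptObj X)).1 _)).trans
    (T.point (ptObj X) (dim_ptObj X)).2)

end Groth.Misc10.Weil
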