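import Groth.Agent.Misc10.Weil.Points

/-! Künneth projectors from coprimality of characteristic polynomials. -/

set_option autoImplicit false

universe u v w

namespace Groth.Misc10.Weil

open AlgebraicGeometry CategoryTheory WeilCoh

variable {k : Type u} [Field k] {K : Type v} [Field K] (T : TheoryOn.{u, v, w} k (IsVar k) K)

lemma exists_lift {X Y Q Z : Var k} (p : Q ⟶ X) (q : Q ⟶ Y) (hQ : IsProd p q) (a : Z ⟶ X) (b : Z ⟶ Y) :
    ∃ j : Z ⟶ Q, j ≫ p = a ∧ j ≫ q = b := by
  have h : sm a ≫ X.obj.hom = sm b ≫ Y.obj.hom := by rw [sm_w, sm_w]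
  refine ⟨ObjectProperty.homMk (Over.homMk (hQ.lift (sm a) (sm b) h) ?_), ?_, ?_⟩
  · rw [← sm_w p]
    exact (hQ.lift_fst_assoc _ _ _ _).trans (sm_w a)
  · refine ObjectProperty.hom_ext _ (Over.OverMorphism.ext ?_)
    exact hQ.lift_fst _ _ _
  · refine ObjectProperty.hom_ext _ (Over.OverMorphism.ext ?_)
    exact hQ.lift_snd _ _ _

lemma exists_iterate {X : Var k} (F : X ⟶ X) : ∀ m : ℕ, ∃ φ : X ⟶ X, ∀ (i : ℤ) (x : T.gr X i),
    T.pull φ (x : T.H X) = (((T.pullDeg F i) ^ m) x : T.H X)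
  | 0 => ⟨𝟙 X, fun i x => by simp [T.pull_id]⟩
  | m + 1 => by
    obtain ⟨φ, h⟩ := exists_iterate F m
    refine ⟨F ≫ φ, fun i x => ?_⟩
    rw [T.pull_comp, AlgHom.comp_apply, h, pow_succ', Module.End.mul_apply]
    rfl

variable [IsAlgClosed k]

/-- A polynomial in `F^*` is given by an algebraic correspondence. -/
lemma exists_poly_correspondence {X P : Var k} [IrreducibleSpace X.obj.left] (p q : P ⟶ X) (hP : IsProd p q)
    (F : X ⟶ X) (g : Polynomial K) :
    ∃ u : T.H P, u ∈ T.gr P (2 * dZ X) ∧ u ∈ Submodule.span K (Set.range (T.cl P)) ∧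
      ∀ (j : ℤ) (b : T.gr X j) (c : T.H X),
        T.tr P (T.pull p (b : T.H X) * u * T.pull q c) =
          T.tr X ((Polynomial.aeval (T.pullDeg F j) g b : T.H X) * c) := by
  induction g using Polynomial.induction_on' with
  | add a a' ha ha' =>
    obtain ⟨u, h1, h2, h3⟩ := ha
    obtain ⟨u', h1', h2', h3'⟩ := ha'
    refine ⟨u + u', Submodule.add_mem _ h1 h1', Submodule.add_mem _ h2 h2', fun j b c => ?_⟩
    simp only [mul_add, add_mul, map_add, LinearMap.add_apply, Submodule.coe_add, h3, h3']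
  | monomial m a =>
    obtain ⟨φ, hφ⟩ := exists_iterate T F m
    obtain ⟨j, hjp, hjq⟩ := exists_lift p q hP φ (𝟙 X)
    have hG := isImageClass_section T j q hjq
    set G := T.cl P (sm j (genericPoint X.obj.left))
    refine ⟨a • G, ?_, Submodule.smul_mem _ _ (Submodule.subset_span ⟨_, rfl⟩), fun i b c => ?_⟩
    · have h := hG.mem
      rw [dim_prod T p q hP, add_sub_cancel_right] at h
      exact Submodule.smul_mem _ _ h
    · rw [mul_smul_comm, ← hG.comm, smul_mul_assoc, mul_assoc, map_smul, hG.tr_mul, map_mul (T.pull j),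
        pull_comp_apply T hjp, pull_comp_apply T hjq, pull_id_apply, hφ]
      simp [Polynomial.aeval_monomial, Module.algebraMap_end_apply]

end Groth.Misc10.Weil
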