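import Groth.Agent.Misc10.Weil.Points

/-! The swap of a product acts on algebraic classes. -/

set_option autoImplicit false

universe u v w

namespace Groth.Misc10.Weil

open AlgebraicGeometry CategoryTheory WeilCoh

variable {k : Type u} [Field k] {K : Type v} [Field K] (T : TheoryOn.{u, v, w} k (IsVar k) K)

lemma pull_cl_mem_span_of_iso {P Q : Var k} (σ : P ⟶ Q) (τ : Q ⟶ P) (h₁ : σ ≫ τ = 𝟙 P) (h₂ : τ ≫ σ = 𝟙 Q)
    (ξ : Q.obj.left) : T.pull σ (T.cl Q ξ) ∈ Submodule.span K (Set.range (T.cl P)) := by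
  have e₁ : sm σ ≫ sm τ = 𝟙 P.obj.left := congrArg (fun f : P ⟶ P => sm f) h₁
  have e₂ : sm τ ≫ sm σ = 𝟙 Q.obj.left := congrArg (fun f : Q ⟶ Q => sm f) h₂
  have : IsIso (sm σ) := ⟨sm τ, e₁, e₂⟩
  have hdim : WeilCoh.dim P.obj.left = WeilCoh.dim Q.obj.left := by
    unfold WeilCoh.dim natDim
    rw [IsHomeomorph.topologicalKrullDim_eq _ (sm σ).homeomorph.isHomeomorph]
  rw [T.cl_pull σ ξ (fun w hw => ?_) (Or.inl ⟨⊤, fun _ _ => trivial, inferInstance⟩)]
  · exact finsum_induction (· ∈ Submodule.span K (Set.range (T.cl P))) (Submodule.zero_mem _)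
      (fun _ _ => Submodule.add_mem _) fun w => Submodule.smul_mem _ _ (Submodule.subset_span ⟨_, rfl⟩)
  · have hξ : sm σ w = ξ := by
      have hinv : ∀ y, sm σ (sm τ y) = y := fun y => congrArg (fun g : Q.obj.left ⟶ Q.obj.left => g y) e₂
      have hinv' : ∀ y, sm τ (sm σ y) = y := fun y => congrArg (fun g : P.obj.left ⟶ P.obj.left => g y) e₁
      have h := hw.2 (sm τ ξ) (by rw [Set.mem_preimage, hinv]; exact subset_closure rfl)
        (by
          have hs : ξ ⤳ sm σ w := specializes_iff_mem_closure.2 hw.1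
          simpa [hinv'] using hs.map (sm τ).continuous)
      rw [← h, hinv]
    rw [← hξ, pdim_image_of_isPreimmersion, hdim]
    ring

lemma corr_congr {X Y Q : Var k} (p : Q ⟶ X) (q : Q ⟶ Y) {n n' : ℤ} {φ : T.gr Q n} {φ' : T.gr Q n'}
    (hn : n = n') (hφ : (φ : T.H Q) = φ') {i i' : ℤ} {x : T.gr X i} {x' : T.gr X i'} (hi : i = i')
    (hx : (x : T.H X) = x') : (corr T p q φ i x : T.H Y) = (corr T p q φ' i' x' : T.H Y) := by
  subst hn hi
  rw [Subtype.ext hφ, Subtype.ext hx]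

end Groth.Misc10.Weil
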