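import Groth.Agent.Misc10.Weil.FixPts
import Groth.Agent.Misc10.Weil.Proj
import Groth.Agent.Misc10.TraceExp
import Groth.Agent.Misc10.ZetaFE

/-! The cohomological expression of the zeta function. -/

set_option autoImplicit false

universe u v w

namespace Groth.Misc10.Weil

open AlgebraicGeometry CategoryTheory WeilCoh

variable {k : Type u} [Field k] [IsAlgClosed k] {K : Type v} [Field K] [CharZero K]
  (T : TheoryOn.{u, v, w} k (IsVar k) K)
  {k₀ : Type u} [Field k₀] [Finite k₀] [Algebra k₀ k]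

omit [IsAlgClosed k] [CharZero K] [Finite k₀] [Algebra k₀ k] in
lemma exists_frob_iterate {X : Scheme.{u}} (FX : X ⟶ X) (hFb : FX.base = 𝟙 _) (hle : ∀ U : X.Opens, U ≤ FX ⁻¹ᵁ U)
    {Q : ℕ} (hFapp : ∀ (U : X.Opens) (s : Γ(X, U)), (FX.appLE U U (hle U)).hom s = s ^ Q)
    (Xb : Var k) (π : Xb.obj.left ⟶ X) (F : Xb ⟶ Xb) (hF : sm F ≫ π = π ≫ FX) :
    ∀ m : ℕ, ∃ (φ : Xb ⟶ Xb) (G : X ⟶ X) (hG : ∀ U : X.Opens, U ≤ G ⁻¹ᵁ U), G.base = 𝟙 _ ∧
      (∀ (U : X.Opens) (s : Γ(X, U)), (G.appLE U U (hG U)).hom s = s ^ (Q ^ m)) ∧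
      sm φ ≫ π = π ≫ G ∧
      ∀ (i : ℤ) (x : T.gr Xb i), T.pull φ (x : T.H Xb) = (((T.pullDeg F i) ^ m) x : T.H Xb)
  | 0 => by
    refine ⟨𝟙 Xb, 𝟙 X, fun U => le_rfl, rfl, fun U s => ?_, ?_, fun i x => by simp [T.pull_id]⟩
    · have h1 : Scheme.Hom.appLE (𝟙 X) U U le_rfl = 𝟙 _ := by
        simp only [Scheme.Hom.appLE, Scheme.Hom.id_app]
        refine (Category.id_comp _).trans ?_
        exact (congrArg _ (Subsingleton.elim _ (𝟙 _))).trans (X.presheaf.map_id _)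
      rw [pow_zero, pow_one]
      exact congrArg (fun g : Γ(X, U) ⟶ Γ(X, U) => g s) h1
    · exact (Category.id_comp _).trans (Category.comp_id _).symm
  | m + 1 => by
    obtain ⟨φ, G, hG, hGb, hGapp, hφ, hT⟩ := exists_frob_iterate FX hFb hle hFapp Xb π F hF m
    refine ⟨F ≫ φ, FX ≫ G, fun U => (hle U).trans ((TopologicalSpace.Opens.map FX.base).map (homOfLE (hG U))).le,
      ?_, fun U s => ?_, ?_, fun i x => ?_⟩
    · rw [Scheme.Hom.comp_base, hFb, hGb, Category.comp_id]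
    · have h1 := congrArg (fun g : Γ(X, U) ⟶ Γ(X, U) => g s) (Scheme.Hom.appLE_comp_appLE FX G U U U (hG U) (hle U))
      refine h1.symm.trans ?_
      show (FX.appLE U U (hle U)).hom ((G.appLE U U (hG U)).hom s) = _
      rw [hFapp, hGapp, ← pow_mul, pow_succ]
    · show (sm F ≫ sm φ) ≫ π = _
      rw [Category.assoc, hφ, ← Category.assoc, hF, Category.assoc]
    · rw [T.pull_comp, AlgHom.comp_apply, hT, pow_succ', Module.End.mul_apply]
      rfl

/-- The trace formula for the number of points. -/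
lemma nPts_eq_traces {X : Scheme.{u}} (f : X ⟶ Spec (CommRingCat.of k₀)) [LocallyOfFiniteType f]
    (FX : X ⟶ X) (hFb : FX.base = 𝟙 _) (hle : ∀ U : X.Opens, U ≤ FX ⁻¹ᵁ U)
    (hFapp : ∀ (U : X.Opens) (s : Γ(X, U)), (FX.appLE U U (hle U)).hom s = s ^ Nat.card k₀)
    (Xb : Var k) (π : Xb.obj.left ⟶ X)
    (hπ : IsPullback π Xb.obj.hom f (Spec.map (CommRingCat.ofHom (algebraMap k₀ k))))
    (F : Xb ⟶ Xb) (hF : sm F ≫ π = π ≫ FX) {Pb : Var k} (p q : Pb ⟶ Xb) (hP : IsProd p q)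
    {m : ℕ} (hm : m ≠ 0) :
    (Zeta.nPts f m : K) = ∑ i ∈ Finset.range (2 * WeilCoh.dim Xb.obj.left + 1),
      (-1 : K) ^ i * LinearMap.trace K (T.gr Xb (i : ℤ)) ((T.pullDeg F (i : ℤ)) ^ m) := by
  have := irred Xb
  obtain ⟨φ, G, hG, hGb, hGapp, hφ, hT⟩ := exists_frob_iterate T FX hFb hle hFapp Xb π F hF m
  obtain ⟨j, hjp, hjq⟩ := exists_lift p q hP (𝟙 Xb) φ
  obtain ⟨d, hdp, hdq⟩ := exists_lift p q hP (𝟙 Xb) (𝟙 Xb)
  rw [← graph_inter_diag T f G hGb hG hm hGapp Xb π hπ φ hφ p q hP j d hjp hjq hdp hdq,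
    trace_formula T φ p q hP j d hjp hjq hdp hdq (isImageClass_section T j p hjp) (isImageClass_section T d p hdp)]
  refine Finset.sum_congr rfl fun i _ => ?_
  congr 2
  exact LinearMap.ext fun x => Subtype.ext (hT i x)

/-- `Z · ∏ P_even = ∏ P_odd`. -/
theorem zeta_factorisation {X : Scheme.{u}} (f : X ⟶ Spec (CommRingCat.of k₀)) [LocallyOfFiniteType f]
    (FX : X ⟶ X) (hFb : FX.base = 𝟙 _) (hle : ∀ U : X.Opens, U ≤ FX ⁻¹ᵁ U)
    (hFapp : ∀ (U : X.Opens) (s : Γ(X, U)), (FX.appLE U U (hle U)).hom s = s ^ Nat.card k₀)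
    (Xb : Var k) (π : Xb.obj.left ⟶ X)
    (hπ : IsPullback π Xb.obj.hom f (Spec.map (CommRingCat.ofHom (algebraMap k₀ k))))
    (F : Xb ⟶ Xb) (hF : sm F ≫ π = π ≫ FX) {Pb : Var k} (p q : Pb ⟶ Xb) (hP : IsProd p q) :
    PowerSeries.map (algebraMap ℚ K) (Zeta.zetaFun f) *
        (∏ i ∈ Finset.range (WeilCoh.dim Xb.obj.left + 1),
          ((LinearMap.charpoly (T.pullDeg F ((2 * i : ℕ) : ℤ))).reverse : PowerSeries K)) =
      ∏ i ∈ Finset.range (WeilCoh.dim Xb.obj.left),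
        ((LinearMap.charpoly (T.pullDeg F ((2 * i + 1 : ℕ) : ℤ))).reverse : PowerSeries K) := by
  classical
  set n := WeilCoh.dim Xb.obj.left
  let A : (i : ℕ) → Matrix (Fin (Module.finrank K (T.gr Xb (i : ℤ)))) (Fin (Module.finrank K (T.gr Xb (i : ℤ)))) K :=
    fun i => LinearMap.toMatrixAlgEquiv (Module.finBasis K (T.gr Xb (i : ℤ))) (T.pullDeg F (i : ℤ))
  have hrev : ∀ i : ℕ, (LinearMap.charpoly (T.pullDeg F (i : ℤ))).reverse = (A i).charpolyRev := fun i => by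
    rw [← Matrix.reverse_charpoly, ← LinearMap.charpoly_toMatrix (T.pullDeg F (i : ℤ)) (Module.finBasis K _)]
    rfl
  have htr : ∀ (i m : ℕ), (A i ^ m).trace = LinearMap.trace K _ ((T.pullDeg F (i : ℤ)) ^ m) := fun i m => by
    rw [LinearMap.trace_eq_matrix_trace K (Module.finBasis K _), ← map_pow]
    rfl
  have h0 : PowerSeries.HasSubst (Zeta.logZeta f) := PowerSeries.HasSubst.of_constantCoeff_zero'
    (by simp [Zeta.logZeta])
  have hmap : PowerSeries.map (algebraMap ℚ K) (Zeta.zetaFun f) =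
      (PowerSeries.exp K).subst (PowerSeries.map (algebraMap ℚ K) (Zeta.logZeta f)) := by
    rw [← PowerSeries.map_exp (A := ℚ) (algebraMap ℚ K)]
    exact PowerSeries.map_subst h0 _
  rw [hmap]
  simp only [hrev]
  refine TraceExp.exp_subst_mul_prod (Finset.range (n + 1)) (Finset.range n) (fun i => A (2 * i)) (fun i => A (2 * i + 1)) _ ?_
  ext m
  simp only [map_sub, map_sum, TraceExp.logSeries, Zeta.logZeta, PowerSeries.coeff_mk]
  have hco : PowerSeries.coeff m (PowerSeries.map (algebraMap ℚ K) (PowerSeries.mk fun m => (Zeta.nPts f m : ℚ) / m)) =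
      (Zeta.nPts f m : K) / m := by simp
  rcases eq_or_ne m 0 with rfl | hm
  · simp
  refine hco.trans ?_
  rw [nPts_eq_traces T f FX hFb hle hFapp Xb π hπ F hF p q hP hm, ← Finset.sum_div, ← Finset.sum_div, ← sub_div]
  congr 1
  rw [← ZetaFE.sum_alternating (fun i => (A i ^ m).trace) n]
  refine Finset.sum_congr rfl fun i _ => ?_
  rw [zsmul_eq_mul, htr]
  push_cast; rfl

lemma exists_rat_of_map_mul_eq {Z : PowerSeries ℚ} (P Q : Polynomial K) (hQ : Q.coeff 0 = 1)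
    (h : PowerSeries.map (algebraMap ℚ K) Z * (Q : PowerSeries K) = (P : PowerSeries K)) :
    ∃ P' Q' : Polynomial ℚ, Q' ≠ 0 ∧ Z * (Q' : PowerSeries ℚ) = (P' : PowerSeries ℚ) := by
  obtain ⟨l, hl⟩ := (Algebra.linearMap ℚ K).exists_leftInverse_of_injective
    (LinearMap.ker_eq_bot.2 (algebraMap ℚ K).injective)
  have hl1 : l 1 = 1 := by simpa using LinearMap.congr_fun hl 1
  let tr : Polynomial K → Polynomial ℚ := fun R => ∑ i ∈ R.support, Polynomial.monomial i (l (R.coeff i))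
  have htr : ∀ R i, (tr R).coeff i = l (R.coeff i) := by
    intro R i
    simp only [tr, Polynomial.finsetSum_coeff, Polynomial.coeff_monomial, Finset.sum_ite_eq', Polynomial.mem_support_iff]
    by_cases hi : R.coeff i = 0 <;> simp [hi]
  refine ⟨tr P, tr Q, fun h0 => ?_, ?_⟩
  · have := congrArg (fun R => Polynomial.coeff R 0) h0
    simp [htr, hQ, hl1] at this
  · ext m
    have hm := congrArg (fun s => l (PowerSeries.coeff m s)) h
    simp only [PowerSeries.coeff_mul, PowerSeries.coeff_map, Polynomial.coeff_coe, map_sum] at hm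
    rw [PowerSeries.coeff_mul, Polynomial.coeff_coe, htr, ← hm]
    refine Finset.sum_congr rfl fun x _ => ?_
    rw [Polynomial.coeff_coe, htr, ← Algebra.smul_def, map_smul, smul_eq_mul]

end Groth.Misc10.Weil
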